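import Cfsg.Agent.Lib.G2Four.Field

/-!
# Local setting for recognising `U₆(2)`

The commuting members at a member `z` are `p i a`: `i` one of the 45 singular points of `GF(4)⁴`
(standard Hermitian form), `a` in `GF(4)`, coded by numbers below four.
-/

set_option autoImplicit false
set_option maxRecDepth 20000

namespace Cfsg.Agent.U6Recog

/-- Conjugation of codes of `GF(4)`. -/
def cjN (a : ℕ) : ℕ := G2Four.mulN a a

/-- Coordinate `i` of a code. -/
def coN (v i : ℕ) : ℕ := (v >>> (2 * i)) % 4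

/-- The standard Hermitian form on codes of `GF(4)⁴`. -/
def hN (u v : ℕ) : ℕ :=
  G2Four.mulN (coN u 0) (cjN (coN v 0)) ^^^ G2Four.mulN (coN u 1) (cjN (coN v 1)) ^^^
    G2Four.mulN (coN u 2) (cjN (coN v 2)) ^^^ G2Four.mulN (coN u 3) (cjN (coN v 3))

/-- The singular points, by vectors with leading coordinate one. -/
def ptList : List ℕ :=
  [5, 9, 13, 17, 20, 33, 36, 49, 52, 65, 68, 80, 85, 89, 93, 101, 105, 109, 117, 121, 125, 129, 132,
    144, 149, 153, 157, 165, 169, 173, 181, 185, 189, 193, 196, 208, 213, 217, 221, 229, 233, 237,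
    245, 249, 253]

/-- The vector of a singular point. -/
def ptV (i : ℕ) : ℕ := ptList.getD i 5

/-- Orthogonality of two singular points (a point is orthogonal to itself). -/
def perpB (i j : ℕ) : Bool := hN (ptV i) (ptV j) == 0

/-- The local hypotheses at a member `z` of the class `D`. -/
structure Loc {G : Type*} [Group G] (D : Set G) (z : G) where
  /-- the members commuting with `z`, other than `z` -/
  p : ℕ → ℕ → G
  mem : z ∈ D
  inv : ∀ a ∈ D, orderOf a = 2
  conj_mem : ∀ (g : G), ∀ a ∈ D, g * a * g⁻¹ ∈ D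
  trans : ∀ a ∈ D, ∃ g : G, g * z * g⁻¹ = a
  p_mem : ∀ i a, i < 45 → a < 4 → p i a ∈ D ∧ Commute z (p i a) ∧ p i a ≠ z
  p_surj : ∀ x ∈ D, Commute z x → x ≠ z → ∃ i a, i < 45 ∧ a < 4 ∧ p i a = x
  p_inj : ∀ i j a b, i < 45 → j < 45 → a < 4 → b < 4 → p i a = p j b → i = j ∧ a = b
  comm : ∀ i j a b, i < 45 → j < 45 → a < 4 → b < 4 → (Commute (p i a) (p j b) ↔ perpB i j = true)
  transl : ∀ v, v < 256 → ∃ g : G, Commute g z ∧
    ∀ i a, i < 45 → a < 4 → g * p i a * g⁻¹ = p i (a ^^^ hN (ptV i) v)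
  ker : ∀ g : G, Commute g z → (∀ i a, i < 45 → a < 4 → Commute g (p i a)) → g = 1 ∨ g = z
  sq : ∀ (v : ℕ) (g : G), v < 256 → hN v v ≠ 0 → Commute g z →
    (∀ i a, i < 45 → a < 4 → g * p i a * g⁻¹ = p i (a ^^^ hN (ptV i) v)) → g * g ≠ 1

end Cfsg.Agent.U6Recog
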