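import Cfsg.Agent.Lib.U6Recog.Setting

/-!
# Lines, covering and the component

A line is determined by the set of common neighbours of two of its points; hence a member outside
commutes with one or all of its five points, and every line at `z` is covered by a member at
distance two.
-/

set_option autoImplicit false
set_option maxRecDepth 20000

namespace Cfsg.Agent.U6Recog

open scoped Classical

/-- The five points of the line through two orthogonal points. -/
def lineN (i j : ℕ) : List ℕ := (List.range 45).filter fun k => perpB i k && perpB j k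

/-- The points orthogonal to a point. -/
def perpList (i : ℕ) : List ℕ := (List.range 45).filter fun k => perpB i k

theorem gq_symm : ∀ i j : Fin 45, perpB i j = perpB j i ∧ perpB i i = true := by
  decide +kernel

theorem gq_line : ∀ i j : Fin 45, i ≠ j → perpB i j = true →
    (lineN i j).length = 5 ∧ ∀ k : Fin 45, (lineN i j).any (fun l => perpB k l) = true := by
  decide +kernel

theorem gq_two_step : ∀ i j : Fin 45, (List.range 45).any (fun k => perpB i k && perpB k j) = true := by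
  decide +kernel

theorem gq_count : ∀ i : Fin 45, (perpList i).length = 13 ∧ ∃ k : Fin 45, perpB i k = false := by
  decide +kernel

theorem gq_only : ∀ i k : Fin 45, (perpList i).all (fun j => perpB k j) = true → k = i := by
  decide +kernel

theorem perpB_self {i : ℕ} (hi : i < 45) : perpB i i = true := (gq_symm ⟨i, hi⟩ ⟨i, hi⟩).2

theorem perpB_symm {i j : ℕ} (hi : i < 45) (hj : j < 45) : perpB i j = perpB j i :=
  (gq_symm ⟨i, hi⟩ ⟨j, hj⟩).1

theorem mem_perpList {i k : ℕ} : k ∈ perpList i ↔ k < 45 ∧ perpB i k = true := by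
  simp [perpList, List.mem_filter, List.mem_range]

theorem commute_conj {G : Type*} [Group G] (g : G) {a b : G} :
    Commute (g * a * g⁻¹) (g * b * g⁻¹) ↔ Commute a b := by
  simp only [Commute, SemiconjBy]
  constructor
  · intro h
    have := congrArg (fun t => g⁻¹ * t * g) h
    simpa [mul_assoc] using this
  · intro h
    calc g * a * g⁻¹ * (g * b * g⁻¹) = g * (a * b) * g⁻¹ := by group
      _ = g * (b * a) * g⁻¹ := by rw [h]
      _ = _ := by group

theorem eq_conj_iff {G : Type*} [Group G] {g a b : G} : g * a * g⁻¹ = b ↔ a = g⁻¹ * b * g := by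
  constructor <;> rintro rfl <;> group

variable {G : Type*} [Group G] {D : Set G}

/-- The members commuting with both. -/
def comNb (D : Set G) (a b : G) : Set G := {y | y ∈ D ∧ Commute y a ∧ Commute y b}

/-- The line through two commuting members. -/
def lineS (D : Set G) (a b : G) : Set G := {x | x ∈ D ∧ ∀ y ∈ comNb D a b, Commute x y}

theorem mem_lineS_left {a : G} (ha : a ∈ D) (b : G) : a ∈ lineS D a b :=
  ⟨ha, fun _ hy => hy.2.1.symm⟩

theorem mem_lineS_right (a : G) {b : G} (hb : b ∈ D) : b ∈ lineS D a b :=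
  ⟨hb, fun _ hy => hy.2.2.symm⟩

namespace Loc

variable {z : G} (L : Loc D z)

theorem z_comm (i a : ℕ) (hi : i < 45) (ha : a < 4) : Commute z (L.p i a) := (L.p_mem i a hi ha).2.1

theorem p_D (i a : ℕ) (hi : i < 45) (ha : a < 4) : L.p i a ∈ D := (L.p_mem i a hi ha).1

theorem p_ne (i a : ℕ) (hi : i < 45) (ha : a < 4) : L.p i a ≠ z := (L.p_mem i a hi ha).2.2

theorem eq_z_or_p {x : G} (hx : x ∈ D) (h : Commute z x) :
    x = z ∨ ∃ i a, i < 45 ∧ a < 4 ∧ L.p i a = x := by
  by_cases e : x = z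
  · exact .inl e
  · exact .inr (L.p_surj x hx h e)

/-- The local setting moved by conjugation. -/
def move (g : G) {w : G} (e : g * z * g⁻¹ = w) : Loc D w where
  p i a := g * L.p i a * g⁻¹
  mem := e ▸ L.conj_mem g z L.mem
  inv := L.inv
  conj_mem := L.conj_mem
  trans a ha := by
    obtain ⟨k, hk⟩ := L.trans a ha
    refine ⟨k * g⁻¹, ?_⟩
    rw [← e, ← hk]; group
  p_mem i a hi ha := by
    subst e
    refine ⟨L.conj_mem g _ (L.p_D i a hi ha), (commute_conj g).2 (L.z_comm i a hi ha), fun h => ?_⟩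
    exact L.p_ne i a hi ha (mul_left_cancel (mul_right_cancel h))
  p_surj x hx hc hne := by
    subst e
    have hx' : g⁻¹ * x * g ∈ D := by simpa using L.conj_mem g⁻¹ x hx
    have hc' : Commute z (g⁻¹ * x * g) :=
      (commute_conj g).1 (by simpa [mul_assoc] using hc)
    obtain ⟨i, a, hi, ha, h⟩ := L.p_surj _ hx' hc' (fun h => hne (by rw [← h]; group))
    exact ⟨i, a, hi, ha, by rw [h]; group⟩
  p_inj i j a b hi hj ha hb h := L.p_inj i j a b hi hj ha hb (mul_left_cancel (mul_right_cancel h))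
  comm i j a b hi hj ha hb := (commute_conj g).trans (L.comm i j a b hi hj ha hb)
  transl v hv := by
    subst e
    obtain ⟨k, hk, hk'⟩ := L.transl v hv
    refine ⟨g * k * g⁻¹, (commute_conj g).2 hk, fun i a hi ha => ?_⟩
    rw [← hk' i a hi ha]; group
  ker k hk hk' := by
    subst e
    have h1 : Commute (g⁻¹ * k * g) z := (commute_conj g).1 (by simpa [mul_assoc] using hk)
    have h2 := L.ker _ h1 fun i a hi ha =>
      (commute_conj g).1 (by simpa [mul_assoc] using hk' i a hi ha)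
    rcases h2 with h2 | h2
    · left; rw [show k = g * (g⁻¹ * k * g) * g⁻¹ by group, h2]; group
    · right; rw [← h2]; group
  sq v k hv hq hk hk' h := by
    subst e
    refine L.sq v (g⁻¹ * k * g) hv hq ((commute_conj g).1 (by simpa [mul_assoc] using hk)) ?_ ?_
    · intro i a hi ha
      have h' := hk' i a hi ha
      have : g⁻¹ * (k * (g * L.p i a * g⁻¹) * k⁻¹) * g =
          g⁻¹ * (g * L.p i (a ^^^ hN (ptV i) v) * g⁻¹) * g := by rw [h']
      simpa [mul_assoc] using this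
    · rw [show g⁻¹ * k * g * (g⁻¹ * k * g) = g⁻¹ * (k * k) * g by group, h]; group

/-- A local setting at any member. -/
noncomputable def atMem (a : G) (ha : a ∈ D) : Loc D a :=
  L.move (L.trans a ha).choose (L.trans a ha).choose_spec

theorem comNb_z (i a : ℕ) (hi : i < 45) (ha : a < 4) :
    comNb D z (L.p i a) =
      insert z ((fun q : ℕ × ℕ => L.p q.1 q.2) '' {q | q.1 < 45 ∧ q.2 < 4 ∧ perpB i q.1 = true}) := by
  ext y
  simp only [Set.mem_insert_iff, Set.mem_image, Prod.exists]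
  constructor
  · rintro ⟨hy, h1, h2⟩
    rcases L.eq_z_or_p hy h1.symm with e | ⟨j, b, hj, hb, e⟩
    · exact .inl e
    · exact .inr ⟨j, b, ⟨hj, hb, (L.comm i j a b hi hj ha hb).1 (e ▸ h2.symm)⟩, e⟩
  · rintro (rfl | ⟨j, b, ⟨hj, hb, hp⟩, rfl⟩)
    · exact ⟨L.mem, Commute.refl _, L.z_comm i a hi ha⟩
    · exact ⟨L.p_D j b hj hb, (L.z_comm j b hj hb).symm,
        ((L.comm i j a b hi hj ha hb).2 hp).symm⟩

theorem ncard_comNb_z (i a : ℕ) (hi : i < 45) (ha : a < 4) : (comNb D z (L.p i a)).ncard = 53 := by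
  have he : {q : ℕ × ℕ | q.1 < 45 ∧ q.2 < 4 ∧ perpB i q.1 = true} =
      ↑((perpList i).toFinset ×ˢ Finset.range 4) := by
    ext q; simp [mem_perpList]; tauto
  have hinj : Set.InjOn (fun q : ℕ × ℕ => L.p q.1 q.2)
      {q | q.1 < 45 ∧ q.2 < 4 ∧ perpB i q.1 = true} := fun q hq r hr e => by
    obtain ⟨e1, e2⟩ := L.p_inj _ _ _ _ hq.1 hr.1 hq.2.1 hr.2.1 e
    exact Prod.ext e1 e2
  have hfin : ({q : ℕ × ℕ | q.1 < 45 ∧ q.2 < 4 ∧ perpB i q.1 = true}).Finite := by
    rw [he]; exact Finset.finite_toSet _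
  rw [L.comNb_z i a hi ha, Set.ncard_insert_of_notMem _ (hfin.image _),
    Set.ncard_image_of_injOn hinj, he, Set.ncard_coe_finset, Finset.card_product,
    List.toFinset_card_of_nodup (l := perpList i) (List.nodup_range.filter _), Finset.card_range,
    show (perpList i).length = 13 from (gq_count ⟨i, hi⟩).1]
  rintro ⟨q, hq, e⟩
  exact L.p_ne _ _ hq.1 hq.2.1 e

/-- Two commuting members have 53 common neighbours. -/
theorem ncard_comNb (L : Loc D z) {a b : G} (ha : a ∈ D) (hb : b ∈ D) (hab : Commute a b) (hne : a ≠ b) :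
    (comNb D a b).ncard = 53 := by
  set M := L.atMem a ha
  obtain ⟨i, c, hi, hc, e⟩ := M.p_surj b hb hab (Ne.symm hne)
  rw [← e]; exact M.ncard_comNb_z i c hi hc

/-- A member commuting with two points of a line commutes with all of it. -/
theorem comNb_line (L : Loc D z) {a b x x' : G} (ha : a ∈ D) (hb : b ∈ D) (hab : Commute a b) (hne : a ≠ b)
    (hx : x ∈ lineS D a b) (hx' : x' ∈ lineS D a b) (hne' : x ≠ x') [Finite G] :
    comNb D x x' = comNb D a b := by
  have hxa : Commute x a := hx.2 a ⟨ha, Commute.refl _, hab⟩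
  have hxb : Commute x b := hx.2 b ⟨hb, hab.symm, Commute.refl _⟩
  have hxx : Commute x' x := hx'.2 x ⟨hx.1, hxa, hxb⟩
  have hsub : comNb D a b ⊆ comNb D x x' := fun y hy =>
    ⟨hy.1, (hx.2 y hy).symm, (hx'.2 y hy).symm⟩
  refine (Set.eq_of_subset_of_ncard_le hsub ?_ (Set.toFinite _)).symm
  rw [L.ncard_comNb ha hb hab hne, L.ncard_comNb hx.1 hx'.1 hxx.symm hne']

theorem lineS_z {i a : ℕ} (hi : i < 45) (ha : a < 4) :
    lineS D z (L.p i a) = insert z (L.p i '' {b | b < 4}) := by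
  ext x
  simp only [Set.mem_insert_iff, Set.mem_image]
  constructor
  · rintro ⟨hx, h⟩
    have hz : z ∈ comNb D z (L.p i a) := ⟨L.mem, Commute.refl _, L.z_comm i a hi ha⟩
    rcases L.eq_z_or_p hx (h z hz).symm with e | ⟨k, c, hk, hc, e⟩
    · exact .inl e
    · refine .inr ⟨c, hc, ?_⟩
      have : k = i := by
        refine congrArg Fin.val (gq_only ⟨i, hi⟩ ⟨k, hk⟩ (List.all_eq_true.2 fun j hj => ?_))
        obtain ⟨hj, hp⟩ := mem_perpList.1 hj
        have hm : L.p j 0 ∈ comNb D z (L.p i a) :=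
          ⟨L.p_D j 0 hj (by norm_num), (L.z_comm j 0 hj (by norm_num)).symm,
            ((L.comm i j a 0 hi hj ha (by norm_num)).2 hp).symm⟩
        exact (L.comm k j c 0 hk hj hc (by norm_num)).1 (e ▸ h _ hm)
      rw [← this]; exact e
  · rintro (rfl | ⟨b, hb, rfl⟩)
    · exact mem_lineS_left L.mem _
    · refine ⟨L.p_D i b hi hb, fun y hy => ?_⟩
      rcases L.eq_z_or_p hy.1 hy.2.1.symm with e | ⟨j, c, hj, hc, e⟩
      · exact e ▸ (L.z_comm i b hi hb).symm
      · exact e ▸ (L.comm i j b c hi hj hb hc).2 ((L.comm i j a c hi hj ha hc).1 (e ▸ hy.2.2.symm))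

/-- Members of one fibre are commuted with together. -/
theorem comm_fibre {y : G} (hy : y ∈ D) {i a b : ℕ} (hi : i < 45) (ha : a < 4) (hb : b < 4)
    (h1 : Commute y z) (h2 : Commute y (L.p i a)) : Commute y (L.p i b) := by
  have : L.p i b ∈ lineS D z (L.p i a) := by rw [L.lineS_z hi ha]; exact .inr ⟨b, hb, rfl⟩
  exact (this.2 y ⟨hy, h1, h2⟩).symm

/-- A member commuting with two points of a fibre commutes with `z`. -/
theorem comm_z_of_two [Finite G] {y : G} (hy : y ∈ D) {i a b : ℕ} (hi : i < 45) (ha : a < 4)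
    (hb : b < 4) (hab : a ≠ b) (h1 : Commute y (L.p i a)) (h2 : Commute y (L.p i b)) :
    Commute y z := by
  have hne : L.p i a ≠ L.p i b := fun e => hab (L.p_inj i i a b hi hi ha hb e).2
  have h := L.comNb_line L.mem (L.p_D i a hi ha) (L.z_comm i a hi ha) (L.p_ne i a hi ha).symm
    (mem_lineS_right z (L.p_D i a hi ha))
    (by rw [L.lineS_z hi ha]; exact .inr ⟨b, hb, rfl⟩) hne
  exact (h.subset ⟨hy, h1, h2⟩).2.1

theorem cover_step [Finite G] {y : G} (hy : y ∈ D) (hyz : ¬ Commute y z) {i j a : ℕ} (hi : i < 45)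
    (hj : j < 45) (ha : a < 4) (hp : perpB i j = true) (h : Commute y (L.p i a)) :
    ∃ b, b < 4 ∧ Commute y (L.p j b) := by
  rcases eq_or_ne i j with rfl | hij
  · exact ⟨a, ha, h⟩
  set w := L.p i a
  have hwD : w ∈ D := L.p_D i a hi ha
  set M := L.atMem w hwD
  have hyw : y ≠ w := fun e => hyz (e ▸ (L.z_comm i a hi ha).symm)
  obtain ⟨k, c, hk, hc, ey⟩ := M.p_surj y hy h.symm hyw
  set S := insert z (L.p j '' {b | b < 4})
  have hSw : ∀ x ∈ S, x ∈ D ∧ Commute w x ∧ x ≠ w := by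
    rintro x (rfl | ⟨b, hb, rfl⟩)
    · exact ⟨L.mem, (L.z_comm i a hi ha).symm, (L.p_ne i a hi ha).symm⟩
    · exact ⟨L.p_D j b hj hb, (L.comm i j a b hi hj ha hb).2 hp,
        fun e => hij (L.p_inj j i b a hj hi hb ha e).1.symm⟩
  have hS : ∀ x ∈ S, ∃ l d, l < 45 ∧ d < 4 ∧ M.p l d = x := fun x hx =>
    M.p_surj x (hSw x hx).1 (hSw x hx).2.1 (hSw x hx).2.2
  choose! f d hf hd hfd using hS
  have hline : S = lineS D z (L.p j 0) := (L.lineS_z hj (by norm_num)).symm
  have hcomm : ∀ x ∈ S, ∀ x' ∈ S, Commute x x' := fun x hx x' hx' => by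
    rw [hline] at hx hx'
    refine hx.2 x' ⟨hx'.1, hx'.2 z ⟨L.mem, Commute.refl _, L.z_comm j 0 hj (by norm_num)⟩,
      hx'.2 _ ⟨L.p_D j 0 hj (by norm_num), (L.z_comm j 0 hj (by norm_num)).symm, Commute.refl _⟩⟩
  have hinj : Set.InjOn f S := by
    intro x hx x' hx' e
    by_contra hne
    have h1 : x ∈ lineS D w x' := by
      rw [← hfd x' hx', M.lineS_z (hf x' hx') (hd x' hx'), ← e]
      exact .inr ⟨d x, hd x hx, hfd x hx⟩
    have e1 := M.comNb_line hwD (hSw x' hx').1 (hSw x' hx').2.1 (hSw x' hx').2.2.symm h1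
      (mem_lineS_right w (hSw x' hx').1) hne
    have e2 := L.comNb_line L.mem (L.p_D j 0 hj (by norm_num)) (L.z_comm j 0 hj (by norm_num))
      (L.p_ne j 0 hj (by norm_num)).symm (hline ▸ hx) (hline ▸ hx') hne
    have h2 : w ∈ lineS D z (L.p j 0) := ⟨hwD, fun t ht => by
      rw [← e2, e1] at ht; exact ht.2.1.symm⟩
    rw [← hline] at h2
    exact (hSw w h2).2.2 rfl
  have hz : z ∈ S := .inl rfl
  have h0 : L.p j 0 ∈ S := .inr ⟨0, by norm_num, rfl⟩
  set i₀ := f z
  set j₀ := f (L.p j 0)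
  have hne0 : i₀ ≠ j₀ := fun e => L.p_ne j 0 hj (by norm_num) (hinj hz h0 e).symm
  have hperp : ∀ x ∈ S, ∀ x' ∈ S, perpB (f x) (f x') = true := fun x hx x' hx' =>
    (M.comm _ _ (d x) (d x') (hf x hx) (hf x' hx') (hd x hx) (hd x' hx')).1
      (by rw [hfd x hx, hfd x' hx']; exact hcomm x hx x' hx')
  obtain ⟨hlen, hhit⟩ := gq_line ⟨i₀, hf z hz⟩ ⟨j₀, hf _ h0⟩ (fun e => hne0 (congrArg Fin.val e))
    (hperp z hz _ h0)
  have himg : f '' S = {l | l ∈ lineN i₀ j₀} := by
    refine Set.eq_of_subset_of_ncard_le ?_ ?_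
      (List.finite_toSet _)
    · rintro _ ⟨x, hx, rfl⟩
      show f x ∈ lineN i₀ j₀
      rw [lineN, List.mem_filter, List.mem_range, Bool.and_eq_true]
      exact ⟨hf x hx, hperp z hz x hx, hperp _ h0 x hx⟩
    · have hp4 : (L.p j '' {b | b < 4}).ncard = ({b | b < 4} : Set ℕ).ncard :=
        Set.ncard_image_of_injOn fun b hb b' hb' e => (L.p_inj j j b b' hj hj hb hb' e).2
      rw [Set.ncard_image_of_injOn hinj, Set.ncard_insert_of_notMem _ (Set.toFinite _), hp4]
      · calc ({l | l ∈ lineN i₀ j₀} : Set ℕ).ncard = (lineN i₀ j₀).toFinset.card := by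
              rw [← Set.ncard_coe_finset]; congr 1; ext; simp
          _ ≤ 5 := hlen ▸ List.toFinset_card_le _
          _ = ({b | b < 4} : Set ℕ).ncard + 1 := by
              rw [show {b : ℕ | b < 4} = ↑(Finset.range 4) by ext; simp, Set.ncard_coe_finset,
                Finset.card_range]
      · rintro ⟨b, hb, e⟩
        exact L.p_ne j b hj hb e
  obtain ⟨l, hl, hkl⟩ := List.any_eq_true.1 (hhit ⟨k, hk⟩)
  obtain ⟨x, hx, rfl⟩ : l ∈ f '' S := himg ▸ hl
  have hyx : Commute y x := by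
    rw [← ey, ← hfd x hx]; exact (M.comm _ _ c (d x) hk (hf x hx) hc (hd x hx)).2 hkl
  rcases hx with rfl | ⟨b, hb, rfl⟩
  · exact absurd hyx hyz
  · exact ⟨b, hb, hyx⟩

theorem covered [Finite G] {y x : G} (hy : y ∈ D) (hyz : ¬ Commute y z) (hx : x ∈ D)
    (hxz : Commute z x) (hxy : Commute x y) {j : ℕ} (hj : j < 45) :
    ∃ b, b < 4 ∧ Commute y (L.p j b) := by
  have hne : x ≠ z := fun e => hyz (e ▸ hxy).symm
  obtain ⟨i, a, hi, ha, e⟩ := L.p_surj x hx hxz hne
  obtain ⟨k, hk, hk'⟩ := List.any_eq_true.1 (gq_two_step ⟨i, hi⟩ ⟨j, hj⟩)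
  rw [List.mem_range] at hk
  rw [Bool.and_eq_true] at hk'
  obtain ⟨b, hb, hb'⟩ := L.cover_step hy hyz hi hk ha hk'.1 (e ▸ hxy.symm)
  exact L.cover_step hy hyz hk hj hb hk'.2 hb'

end Loc

/-- The component of `z`: everything at distance at most two. -/
def compS (D : Set G) (z : G) : Set G := {y | y ∈ D ∧ ∃ x ∈ D, Commute z x ∧ Commute x y}

theorem conj_compS (hD : ∀ (g : G), ∀ a ∈ D, g * a * g⁻¹ ∈ D) (g : G) {a y : G}
    (hy : y ∈ compS D a) : g * y * g⁻¹ ∈ compS D (g * a * g⁻¹) := by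
  obtain ⟨hy, x, hx, h1, h2⟩ := hy
  exact ⟨hD g y hy, _, hD g x hx, (commute_conj g).2 h1, (commute_conj g).2 h2⟩

theorem compS_sub (D : Set G) (z : G) {y : G} (hy : y ∈ compS D z) : y ∈ D := hy.1

namespace Loc

variable {z : G} (L : Loc D z) [Finite G]

theorem mem_comp_self (L : Loc D z) : z ∈ compS D z := ⟨L.mem, z, L.mem, Commute.refl _, Commute.refl _⟩

theorem mem_comp_of_commute (L : Loc D z) {a x : G} (ha : a ∈ compS D z) (hx : x ∈ D)
    (h : Commute a x) : x ∈ compS D z := by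
  obtain ⟨ha, u, hu, hu1, hu2⟩ := ha
  by_cases haz : Commute a z
  · exact ⟨hx, a, ha, haz.symm, h⟩
  rcases eq_or_ne x a with rfl | hne
  · exact ⟨ha, u, hu, hu1, hu2⟩
  set M := L.atMem a ha
  obtain ⟨k, c, hk, hc, e⟩ := M.p_surj x hx h hne
  have hza : ¬ Commute z a := fun t => haz t.symm
  obtain ⟨b, hb, hb'⟩ := M.covered L.mem hza hu hu2.symm hu1.symm hk
  refine ⟨hx, M.p k b, M.p_D k b hk hb, hb', ?_⟩
  rw [← e]
  exact (M.comm k k b c hk hk hb hc).2 (perpB_self hk)

theorem comp_eq (L : Loc D z) {a : G} (ha : a ∈ compS D z) : compS D a = compS D z := by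
  have key : ∀ {b : G} (M : Loc D b) {a : G}, a ∈ compS D b → compS D a ⊆ compS D b := by
    rintro b M a ha y ⟨hy, x, hx, h1, h2⟩
    exact M.mem_comp_of_commute (M.mem_comp_of_commute ha hx h1) hy h2
  refine le_antisymm (key L ha) (key (L.atMem a ha.1) ?_)
  obtain ⟨_, u, hu, h1, h2⟩ := ha
  exact ⟨L.mem, u, hu, h2.symm, h1.symm⟩

theorem conj_comp (L : Loc D z) {g a : G} (ha : a ∈ compS D z)
    (hga : g * a * g⁻¹ ∈ compS D z) {y : G} (hy : y ∈ compS D z) :
    g * y * g⁻¹ ∈ compS D z := by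
  rw [← L.comp_eq ha] at hy
  rw [← L.comp_eq hga]
  exact conj_compS L.conj_mem g hy

end Loc

end Cfsg.Agent.U6Recog
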