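import Cfsg.Agent.Lib.U6Recog.Codes

/-!
# The model of the translations on codes

A code `x < 512`: bits below 8 are exponents of the translations at the basis vectors, bit 8 that
of the central element.  `encN` is the isotropic vector of the member it gives.
-/

set_option autoImplicit false
set_option maxRecDepth 20000

namespace Cfsg.Agent.U6Recog

/-- The basis of singular vectors; the entry 8 stands for the central element. -/
def bas (i : ℕ) : ℕ := [52, 24, 213, 106, 20, 40, 105, 190].getD i 0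

/-- The commutator bits. -/
def betaB (j i : ℕ) : Bool := Nat.testBit ([148, 124, 67, 194, 3, 2, 14, 9, 0].getD i 0) j

/-- Evaluate a number before passing it on. -/
def forceN {α : Type} (n : ℕ) (f : ℕ → α) : α :=
  match n with
  | 0 => f 0
  | m + 1 => f (m + 1)

theorem forceN_eq {α : Type} (n : ℕ) (f : ℕ → α) : forceN n f = f n := by cases n <;> rfl

/-- The sign met moving generator `i` past the higher generators below `k`. -/
def sgn (x i : ℕ) : ℕ → Bool
  | 0 => false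
  | k + 1 => if i < k ∧ x.testBit k = true then Bool.xor (sgn x i k) (betaB k i) else sgn x i k

/-- Right multiplication by generator `i`. -/
def stepX (x i : ℕ) : ℕ := if sgn x i 9 then x ^^^ 2 ^ i ^^^ 256 else x ^^^ 2 ^ i

/-- Right multiplication by the first `k` bits of `y`. -/
def mulP (x y : ℕ) : ℕ → ℕ
  | 0 => x
  | k + 1 => if y.testBit k then forceN (mulP x y k) (fun r => stepX r k) else mulP x y k

/-- Product of codes. -/
def mulX (x y : ℕ) : ℕ := mulP x y 9

/-- The translation vector of the first `k` bits. -/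
def vecP (x : ℕ) : ℕ → ℕ
  | 0 => 0
  | k + 1 => if x.testBit k then vecP x k ^^^ bas k else vecP x k

/-- The translation vector. -/
def vOf (x : ℕ) : ℕ := vecP x 9

/-- The last coordinate of the translation. -/
def cP (x : ℕ) : ℕ → ℕ
  | 0 => 0
  | k + 1 => if x.testBit k then cP x k ^^^ (if k = 8 then 1 else hN (bas k) (vecP x k)) else cP x k

/-- The vector `f + v + c u` of a member at distance two. -/
def encN (x : ℕ) : ℕ := (2 ^^^ cP x 9) + 4 * (3 ^^^ cP x 9) + 16 * vOf x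

/-- The vector `X + a u` of a neighbour. -/
def nbN (i a : ℕ) : ℕ := a + 4 * a + 16 * ptV i

/-- The form on codes of `GF(4)⁶`. -/
def hM (u v : ℕ) : ℕ :=
  G2Four.mulN (coN u 0) (cjN (coN v 0)) ^^^ G2Four.mulN (coN u 1) (cjN (coN v 1)) ^^^
    G2Four.mulN (coN u 2) (cjN (coN v 2)) ^^^ G2Four.mulN (coN u 3) (cjN (coN v 3)) ^^^
    G2Four.mulN (coN u 4) (cjN (coN v 4)) ^^^ G2Four.mulN (coN u 5) (cjN (coN v 5))

def derivs : List (ℕ × ℕ) :=
   [
    (0, 1), (2, 3), (2, 4), (2, 5), (3, 4), (3, 5), (3, 10), (3, 11), (4, 5), (4, 6),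
    (4, 7), (4, 11), (4, 13), (4, 15), (5, 6), (5, 7), (5, 17), (5, 18), (6, 7), (6, 18),
    (6, 23), (6, 25), (0, 10), (0, 13), (0, 21), (0, 22), (0, 25), (0, 27), (1, 10), (1, 13),
    (1, 21), (1, 22), (1, 25), (1, 27), (1, 30), (1, 31), (1, 32), (1, 33), (1, 34), (1, 35),
    (2, 35), (2, 39), (2, 46), (3, 35), (3, 39), (3, 46), (3, 48), (3, 49), (3, 50), (6, 32),
    (6, 36), (6, 43), (6, 49), (6, 53), (6, 54), (7, 32), (7, 36), (7, 43), (7, 49), (7, 53),
    (7, 54), (7, 57), (7, 58), (7, 59), (7, 60), (7, 61), (7, 62), (8, 61), (8, 68), (8, 72),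
    (9, 58), (9, 65), (9, 69), (9, 76), (10, 60), (10, 67), (10, 74), (11, 33), (11, 47), (11, 57),
    (11, 61), (11, 68), (11, 71), (11, 72), (12, 34), (12, 41), (12, 59), (12, 62), (12, 66), (12, 70),
    (13, 60), (13, 67), (13, 74), (13, 82), (13, 83), (13, 84), (14, 40), (14, 61), (14, 64), (14, 68),
    (14, 72), (14, 88), (14, 89), (14, 91), (15, 45), (15, 59), (15, 63), (15, 70), (15, 73), (15, 77),
    (15, 94), (15, 97), (16, 75), (17, 92), (18, 44), (18, 110), (22, 109), (0, 68), (0, 77), (4, 75),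
    (4, 120), (4, 125), (4, 126), (5, 125), (5, 126), (5, 129), (5, 130)]

/-- The vectors of the members at distance two, packed. -/
def encPack : ℕ := 0x7814ce60b544ade99eb5e81e12e2640ab3e1c71f34dfeebb6c4584744404b9b8d4a1195e06b32e1e42a1d34e7ecb1ffb50b64148e7c4854b119dba9e3a40eb22e161efbdbbf7bc3b44e70b5c1684911a5b894bde2e11a1361021fbecf1e34d7b11e25409b3d1c4ef0bdc1e847bb4f463157eaeb9abb6b82b05b31e1d4291d0be41c8efc46fe5be77e43ebae8e1a2496b3940db21e151ec4d84f44c0453167b4b47fe861b249eeaab2d1191351011f81ccee0bd444747315fb6be924a6e8a1bebc64f21debeae13e2740bb3f1ac4984b4480479e4d161455bd21e6bca4fee07b33e1f42b1b818cea0b9446db59b75b41beeedaef6ec2e3b40fb23e17184eb0b9c1a8451465e4917dbfabce4e21d6e2f11b137103190ba4188ebc44517145de69bafb9bbb7b83b7ae4e162456bc51f14ddee9b10424e0813cbbbe8f1a3497b6eb5ab76b42bd14e5ec91fdb0413041ce28b871b349feabb52466e4a17ebedbd9bf5bc1b38e0c120414b934a7e8b1bfb4617245ee6abf9ecd1e14d5b2cb18b34b00b7844cb60e541adb99bb5b81b12b261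0ae3e4c74f31dfbebe6c1581741401b9e8d1a1495b06e32b1e12a4d31e7bcb4ffe50e64448b7c1851b149dea9b3a10ee22b164efedbef7ec3e44b70e5c4681914a5e891bdb2e41a4364024fbbcf4e31d7e11b25109e3d4c4bf0edc4e817be4f163457baee9aeb6e82e05e31b1d1294d0ee44c8bfc16fb5bb77b43bbab8e4a2196e3910de21b154ec1d81f41c0153467e4b17fb864b219ebaae2d4194354014f84ccbe0ed414717345fe6bb921a6b8a4beec61f24deeeab13b2710be3f4ac1981b4180179b4d461155ed24e6eca1feb07e33b1f12b4b848cba0e9416de59e75e41eeebdabf6bc2b3b10fe23b17484bb0e9c4a8151165b4947defaece1e24d6b2f41b437403490ea4488bbc14547115db69eafe9beb7e83e7ab4e462156ec54f11ddbe9e10124b0843cebbb8f4a3197e6ee5ae76e42ed11e5bc94fde0443011cb28e874b319fbabe52166b4a47eeeded9ef5ec1e38b0c420114e931a7b8b4bfe4647215eb6aef9bcd4e11d5e2ce18e34e00e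

/-- The codes of the translations to neighbours. -/
def tCodes : List ℕ :=
   [
    1, 2, 4, 8, 16, 32, 64, 128, 3, 12, 20, 36, 24, 40,
    28, 44, 48, 80, 144, 52, 56, 60, 96, 160, 112, 176, 192, 208,
    224, 240, 21, 41, 61, 97, 177, 209, 22, 42, 62, 98, 178, 210,
    23, 43, 63, 99, 179, 211, 469, 358, 183, 217, 362, 443, 477, 110,
    447, 125, 86, 107, 294, 507, 413, 189, 150, 171, 486, 315, 349, 253,
    214, 235, 422, 379, 285, 504, 350, 421, 90, 423, 497, 338, 306, 303,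
    265, 325, 503, 345, 223, 121, 463, 386, 425, 202, 371, 133, 510, 206,
    270, 275, 309, 282, 263, 289, 430, 231, 394, 321, 186, 451, 101, 158,
    79, 71, 401, 506, 343, 137, 351, 482, 456, 505, 175, 245, 419, 348,
    420, 488, 472, 332, 436, 380, 388, 364, 404]

/-- The vector of a member at distance two, from the table. -/
def encT (x : ℕ) : ℕ := (encPack >>> (12 * x)) % 4096

/-- One derivation step. -/
def deriveStep (l : List (ℕ × ℕ)) (p : ℕ × ℕ) : List (ℕ × ℕ) :=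
  l ++ [((l.getD p.1 (0, 0)).1 ^^^ (l.getD p.2 (0, 0)).1,
    mulX (l.getD p.1 (0, 0)).2 (l.getD p.2 (0, 0)).2)]

/-- The start of the table: the basis. -/
def baseT : List (ℕ × ℕ) := (List.range 8).map fun i => (bas i, 2 ^ i)

/-- The table of singular vectors with the codes of their translations. -/
def tTab : List (ℕ × ℕ) := derivs.foldl deriveStep baseT

/-- Validity of one step. -/
def stepB (l : List (ℕ × ℕ)) (p : ℕ × ℕ) : Bool :=
  decide (p.1 < l.length) && decide (p.2 < l.length) &&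
    hN (l.getD p.1 (0, 0)).1 (l.getD p.2 (0, 0)).1 == 0 &&
    singB ((l.getD p.1 (0, 0)).1 ^^^ (l.getD p.2 (0, 0)).1)

/-- Validity of all steps. -/
def stepsB : List (ℕ × ℕ) → List (ℕ × ℕ) → Bool
  | _, [] => true
  | l, p :: ps => stepB l p && stepsB (deriveStep l p) ps

theorem stepsB_ok : stepsB baseT derivs = true := by decide +kernel

theorem tTab_ok : (tTab.all fun q => singB q.1 && decide (q.1 < 256) && decide (q.2 < 512) &&
      decide (vOf q.2 = q.1)) = true ∧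
    ((List.range 256).all fun v => !singB v || tTab.any fun q => q.1 == v) = true ∧
    tTab.length = 135 := by decide +kernel

theorem bas_ok : ∀ i : Fin 8, bas i < 256 ∧ singB (bas i) = true := by decide +kernel

theorem beta_ok : ∀ j i : Fin 9, betaB j i = if (j : ℕ) < 8 ∧ (i : ℕ) < 8 then
    hN (bas j ^^^ bas i) (bas j ^^^ bas i) != 0 else false := by decide +kernel

theorem step_ok : ((List.range 512).all fun x => (List.range 9).all fun i =>
    decide (stepX x i < 512) && decide (x ^^^ 2 ^ i < 512)) = true := by decide +kernel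

theorem vOf_ok : ((List.range 512).all fun x => decide (vOf x < 256) && decide (encN x < 4096)) = true ∧
    ((List.range 256).all fun v => (List.range 256).any fun x => vOf x == v) = true := by decide +kernel

theorem nb_form : ∀ i j : Fin 45, ∀ a b : Fin 4,
    hM 5 (nbN i a) = 0 ∧ hM (nbN i a) 5 = 0 ∧ nbN i a < 4096 ∧
      (hM (nbN i a) (nbN j b) == 0) = perpB i j := by decide +kernel

theorem encT_ok : ((List.range 512).all fun x => (encN x == encT x) && (vOf x == encT x >>> 4)) = true := by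
  decide +kernel

theorem tCodes_ok : tTab.map Prod.snd = tCodes := by decide +kernel

theorem far_form : ((List.range 512).all fun x => hM 5 (encT x) != 0 && hM (encT x) 5 != 0 &&
    hM (encT x) (encT x) == 0 && (List.range 45).all fun i => (List.range 4).all fun a =>
      (hM (nbN i a) (encT x) == 0) == (hN (ptV i) (encT x >>> 4) == a)) = true := by decide +kernel

theorem far_adj0 : ((List.range 128).all fun x => forceN (encT (0 + x)) fun u => tCodes.all fun c =>
    forceN (mulX (0 + x) c) fun y => hM u (encT y) == 0) = true := by decide +kernel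

theorem far_adj1 : ((List.range 128).all fun x => forceN (encT (128 + x)) fun u => tCodes.all fun c =>
    forceN (mulX (128 + x) c) fun y => hM u (encT y) == 0) = true := by decide +kernel

theorem far_adj2 : ((List.range 128).all fun x => forceN (encT (256 + x)) fun u => tCodes.all fun c =>
    forceN (mulX (256 + x) c) fun y => hM u (encT y) == 0) = true := by decide +kernel

theorem far_adj3 : ((List.range 128).all fun x => forceN (encT (384 + x)) fun u => tCodes.all fun c =>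
    forceN (mulX (384 + x) c) fun y => hM u (encT y) == 0) = true := by decide +kernel

theorem cT_ok : ((List.range 512).all fun x => let c := coN (encT x) 0 ^^^ 2
      coN (encT x) 1 == (c ^^^ 3) && (c ^^^ cjN c == hN (encT x >>> 4) (encT x >>> 4)) &&
        encT (x ^^^ 256) == encT x ^^^ 5) = true := by decide +kernel

theorem vOf_fibre : ((List.range 512).all fun x => vOf x == vOf (x % 256)) = true ∧
    ((List.range 256).all fun x => (List.range 256).all fun y => vOf x != vOf y || x == y) = true := by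
  decide +kernel

theorem first_coords : ∀ c d : Fin 4,
    G2Four.mulN (2 ^^^ c) (cjN (2 ^^^ d)) ^^^ G2Four.mulN (3 ^^^ c) (cjN (3 ^^^ d)) = c ^^^ cjN d := by
  decide +kernel

theorem hM_one : ∀ c d : Fin 4, (c : ℕ) ^^^ cjN d ^^^ (c.1 ^^^ cjN (d.1 ^^^ 1)) = 1 := by decide +kernel

theorem mul_xor_left : ∀ a b c : Fin 4,
    G2Four.mulN (b.1 ^^^ c.1) a = G2Four.mulN b a ^^^ G2Four.mulN c a := by decide +kernel

theorem hN_xor_left (u v w : ℕ) : hN (u ^^^ v) w = hN u w ^^^ hN v w := by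
  have h : ∀ i, G2Four.mulN (coN (u ^^^ v) i) (cjN (coN w i)) =
      G2Four.mulN (coN u i) (cjN (coN w i)) ^^^ G2Four.mulN (coN v i) (cjN (coN w i)) := fun i => by
    rw [coN_xor]
    exact mul_xor_left ⟨_, mulN_lt _ _⟩ ⟨_, coN_lt u i⟩ ⟨_, coN_lt v i⟩
  simp only [hN, h]
  simp [Nat.xor_assoc, Nat.xor_comm, Nat.xor_left_comm]

theorem cj_facts : ∀ a b : Fin 4, cjN (a.1 ^^^ b.1) = cjN a ^^^ cjN b ∧ cjN (cjN a) = a.1 ∧
    cjN (G2Four.mulN a (cjN b)) = G2Four.mulN b (cjN a) := by decide +kernel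

theorem hN_cj (u v : ℕ) : cjN (hN u v) = hN v u := by
  have a : ∀ {x y : ℕ}, x < 4 → y < 4 → cjN (x ^^^ y) = cjN x ^^^ cjN y := fun hx hy =>
    (cj_facts ⟨_, hx⟩ ⟨_, hy⟩).1
  have b : ∀ i, cjN (G2Four.mulN (coN u i) (cjN (coN v i))) = G2Four.mulN (coN v i) (cjN (coN u i)) :=
    fun i => (cj_facts ⟨_, coN_lt u i⟩ ⟨_, coN_lt v i⟩).2.2
  simp only [hN]
  rw [a (xor_lt4 (xor_lt4 (mulN_lt _ _) (mulN_lt _ _)) (mulN_lt _ _)) (mulN_lt _ _),
    a (xor_lt4 (mulN_lt _ _) (mulN_lt _ _)) (mulN_lt _ _), a (mulN_lt _ _) (mulN_lt _ _), b, b, b, b]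

theorem coN_shift (u i : ℕ) : coN (u >>> 4) i = coN u (i + 2) := by
  simp only [coN, ← Nat.shiftRight_add]
  ring_nf

theorem encT_all {x : ℕ} (hx : x < 512) :
    encN x = encT x ∧ vOf x = encT x >>> 4 := by
  simpa using List.all_eq_true.1 encT_ok x (List.mem_range.2 hx)

/-- The form between two members at distance two. -/
theorem hM_far {x y : ℕ} (hx : x < 512) (hy : y < 512) :
    hM (encT x) (encT y) = (coN (encT x) 0 ^^^ 2) ^^^ cjN (coN (encT y) 0 ^^^ 2) ^^^ hN (vOf x) (vOf y) := by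
  have fx := List.all_eq_true.1 cT_ok x (List.mem_range.2 hx)
  have fy := List.all_eq_true.1 cT_ok y (List.mem_range.2 hy)
  simp only [Bool.and_eq_true, beq_iff_eq] at fx fy
  obtain ⟨c, hc, ec⟩ : ∃ c, c < 4 ∧ coN (encT x) 0 = 2 ^^^ c :=
    ⟨coN (encT x) 0 ^^^ 2, xor_lt4 (coN_lt _ _) (by norm_num), by
      rw [Nat.xor_comm 2, Nat.xor_assoc, Nat.xor_self, Nat.xor_zero]⟩
  obtain ⟨d, hd, ed⟩ : ∃ d, d < 4 ∧ coN (encT y) 0 = 2 ^^^ d :=
    ⟨coN (encT y) 0 ^^^ 2, xor_lt4 (coN_lt _ _) (by norm_num), by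
      rw [Nat.xor_comm 2, Nat.xor_assoc, Nat.xor_self, Nat.xor_zero]⟩
  have t : ∀ a : ℕ, (2 ^^^ a) ^^^ 2 = a := fun a => by
    rw [Nat.xor_comm 2, Nat.xor_assoc, Nat.xor_self, Nat.xor_zero]
  rw [(encT_all hx).2, (encT_all hy).2]
  simp only [hM, hN, coN_shift]
  rw [fx.1.1, fy.1.1, ec, ed, t, t, Nat.xor_comm c 3, Nat.xor_comm d 3, first_coords ⟨c, hc⟩ ⟨d, hd⟩]
  simp [Nat.xor_assoc]

theorem far_diff {x y : ℕ} (hx : x < 512) (hy : y < 512) (h : hM (encT x) (encT y) = 0) :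
    vOf x ^^^ vOf y = 0 ∨ singB (vOf x ^^^ vOf y) = true := by
  rcases eq_or_ne (vOf x ^^^ vOf y) 0 with h0 | h0
  · exact .inl h0
  refine .inr ?_
  rw [singB, Bool.and_eq_true, bne_iff_ne, beq_iff_eq]
  refine ⟨h0, ?_⟩
  have fx := List.all_eq_true.1 cT_ok x (List.mem_range.2 hx)
  have fy := List.all_eq_true.1 cT_ok y (List.mem_range.2 hy)
  simp only [Bool.and_eq_true, beq_iff_eq] at fx fy
  rw [← (encT_all hx).2] at fx
  rw [← (encT_all hy).2] at fy
  rw [hM_far hx hy] at h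
  obtain ⟨c, hc, ec⟩ : ∃ c, c < 4 ∧ coN (encT x) 0 ^^^ 2 = c := ⟨_, xor_lt4 (coN_lt _ _) (by norm_num), rfl⟩
  obtain ⟨d, hd, ed⟩ : ∃ d, d < 4 ∧ coN (encT y) 0 ^^^ 2 = d := ⟨_, xor_lt4 (coN_lt _ _) (by norm_num), rfl⟩
  rw [ec] at fx h
  rw [ed] at fy h
  have h1 : hN (vOf x) (vOf y) = c ^^^ cjN d := (Nat.xor_eq_zero_iff.1 h).symm
  have h2 : hN (vOf y) (vOf x) = cjN c ^^^ d := by
    rw [← hN_cj, h1, (cj_facts ⟨c, hc⟩ ⟨cjN d, mulN_lt _ _⟩).1, (cj_facts ⟨d, hd⟩ ⟨d, hd⟩).2.1]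
  rw [hN_xor, hN_xor_left, hN_xor_left, ← fx.1.2, ← fy.1.2, h1, h2]
  revert hc hd
  clear! x y
  intro hc hd
  exact (by decide +kernel : ∀ c d : Fin 4, ((c : ℕ) ^^^ cjN c) ^^^ (cjN c ^^^ d) ^^^
    ((c : ℕ) ^^^ cjN d ^^^ ((d : ℕ) ^^^ cjN d)) = 0) ⟨c, hc⟩ ⟨d, hd⟩

theorem far_flip {x y : ℕ} (hx : x < 512) (hy : y < 512) (h : hM (encT x) (encT y) = 0) :
    hM (encT x) (encT (y ^^^ 256)) ≠ 0 := by
  have hy' : y ^^^ 256 < 512 := Nat.xor_lt_two_pow (n := 9) hy (by norm_num)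
  have fy := List.all_eq_true.1 cT_ok y (List.mem_range.2 hy)
  simp only [Bool.and_eq_true, beq_iff_eq] at fy
  have hv : vOf (y ^^^ 256) = vOf y := by
    have f := List.all_eq_true.1 vOf_fibre.1
    have e1 := f y (List.mem_range.2 hy)
    have e2 := f _ (List.mem_range.2 hy')
    simp only [beq_iff_eq] at e1 e2
    rw [e1, e2, show (256 : ℕ) = 2 ^ 8 by norm_num, Nat.xor_mod_two_pow]
    simp
  rw [hM_far hx hy] at h
  rw [hM_far hx hy', hv, fy.2, coN_xor, show coN 5 0 = 1 from rfl, Nat.xor_assoc (coN (encT y) 0) 1,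
    Nat.xor_comm 1 2, ← Nat.xor_assoc (coN (encT y) 0)]
  generalize hc : coN (encT x) 0 ^^^ 2 = c at h ⊢
  generalize hd : coN (encT y) 0 ^^^ 2 = d at h ⊢
  have hc4 : c < 4 := hc ▸ xor_lt4 (coN_lt _ _) (by norm_num)
  have hd4 : d < 4 := hd ▸ xor_lt4 (coN_lt _ _) (by norm_num)
  rw [← Nat.xor_eq_zero_iff.1 h]
  exact fun e => by
    have := hM_one ⟨c, hc4⟩ ⟨d, hd4⟩
    simp only at this
    rw [Nat.xor_comm (c ^^^ cjN (d ^^^ 1)) (c ^^^ cjN d)] at e
    omega

end Cfsg.Agent.U6Recog
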