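import Cfsg.Agent.Lib.U6Recog.Basic

/-! # Arithmetic of the codes -/

set_option autoImplicit false
set_option maxRecDepth 20000

namespace Cfsg.Agent.U6Recog

/-- A multiple of a code. -/
def scN (l v : ℕ) : ℕ :=
  G2Four.mulN l (coN v 0) ^^^ G2Four.mulN l (coN v 1) <<< 2 ^^^ G2Four.mulN l (coN v 2) <<< 4 ^^^
    G2Four.mulN l (coN v 3) <<< 6

/-- The singular nonzero codes. -/
def singB (v : ℕ) : Bool := v != 0 && hN v v == 0

theorem mulN_lt (a b : ℕ) : G2Four.mulN a b < 4 := Nat.mod_lt _ (by norm_num)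

theorem coN_lt (v i : ℕ) : coN v i < 4 := Nat.mod_lt _ (by norm_num)

theorem xor_lt4 {a b : ℕ} (ha : a < 4) (hb : b < 4) : a ^^^ b < 4 :=
  Nat.xor_lt_two_pow (n := 2) ha hb

theorem xor_lt256 {a b : ℕ} (ha : a < 256) (hb : b < 256) : a ^^^ b < 256 :=
  Nat.xor_lt_two_pow (n := 8) ha hb

theorem hN_lt (u v : ℕ) : hN u v < 4 :=
  xor_lt4 (xor_lt4 (xor_lt4 (mulN_lt _ _) (mulN_lt _ _)) (mulN_lt _ _)) (mulN_lt _ _)

theorem coN_xor (v w i : ℕ) : coN (v ^^^ w) i = coN v i ^^^ coN w i := by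
  simp only [coN, Nat.shiftRight_xor_distrib]
  exact (Nat.xor_mod_two_pow (n := 2))

theorem mul_cj_xor : ∀ a b c : Fin 4,
    G2Four.mulN a (cjN (b.1 ^^^ c.1)) = G2Four.mulN a (cjN b) ^^^ G2Four.mulN a (cjN c) := by
  decide +kernel

theorem hN_xor (u v w : ℕ) : hN u (v ^^^ w) = hN u v ^^^ hN u w := by
  have h : ∀ i, G2Four.mulN (coN u i) (cjN (coN (v ^^^ w) i)) =
      G2Four.mulN (coN u i) (cjN (coN v i)) ^^^ G2Four.mulN (coN u i) (cjN (coN w i)) := fun i => by
    rw [coN_xor]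
    exact mul_cj_xor ⟨_, coN_lt u i⟩ ⟨_, coN_lt v i⟩ ⟨_, coN_lt w i⟩
  simp only [hN, h]
  simp [Nat.xor_assoc, Nat.xor_comm, Nat.xor_left_comm]

theorem hN_zero : ∀ u : Fin 45, hN (ptV u) 0 = 0 := by decide +kernel

theorem ptV_lt : ∀ i : Fin 45, ptV i < 256 ∧ singB (ptV i) = true := by decide +kernel

theorem hN_nondeg : ((List.range 256).all fun v =>
    v == 0 || (List.range 45).any fun i => hN (ptV i) v != 0) = true := by decide +kernel

theorem eq_zero_of_orth {v : ℕ} (hv : v < 256) (h : ∀ i < 45, hN (ptV i) v = 0) : v = 0 := by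
  have := List.all_eq_true.1 hN_nondeg v (List.mem_range.2 hv)
  rw [Bool.or_eq_true] at this
  rcases this with h' | h'
  · simpa using h'
  · obtain ⟨i, hi, hne⟩ := List.any_eq_true.1 h'
    simp [h i (List.mem_range.1 hi)] at hne

theorem eq_of_orth {v w : ℕ} (hv : v < 256) (hw : w < 256)
    (h : ∀ i < 45, hN (ptV i) v = hN (ptV i) w) : v = w := by
  refine Nat.xor_eq_zero_iff.1 (eq_zero_of_orth (xor_lt256 hv hw) fun i hi => ?_)
  rw [hN_xor, h i hi, Nat.xor_self]

theorem gq_radical : ∀ i : Fin 45, ((List.range 256).all fun v =>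
    !((perpList i).all fun j => hN (ptV j) v == 0) ||
      (List.range 4).any fun l => v == scN l (ptV i)) = true := by decide +kernel

theorem gq_nonperp : ∀ i : Fin 45, ((List.range 45).filter fun k => !perpB i k).length = 32 := by
  decide +kernel

theorem singB_decomp : ((List.range 256).all fun v => !singB v || (List.range 45).any fun i =>
    (List.range 4).any fun l => l != 0 && v == scN l (ptV i)) = true := by decide +kernel

theorem scN_facts : ∀ i : Fin 45, ∀ l : Fin 4,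
    scN l (ptV i) < 256 ∧ (scN l (ptV i) = 0 → (l : ℕ) = 0) ∧ ((l : ℕ) ≠ 0 → singB (scN l (ptV i)) = true) ∧
      (∀ m : Fin 4, scN l (ptV i) = scN m (ptV i) → l = m) := by decide +kernel

end Cfsg.Agent.U6Recog
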