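import Cfsg.Agent.Lib.U6Recog.Codes

/-! # The 512 members at distance two and the size of the component -/

set_option autoImplicit false
set_option maxRecDepth 20000

namespace Cfsg.Agent.U6Recog

open scoped Classical

variable {G : Type*} [Group G] {D : Set G}

/-- The members at distance two from `z`. -/
def farS (D : Set G) (z : G) : Set G := {y | y ∈ compS D z ∧ ¬ Commute y z}

namespace Loc

variable {z : G} (L : Loc D z)

/-- The coordinate of the member in fibre `i` commuting with `y`. -/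
noncomputable def sec (y : G) (i : ℕ) : ℕ :=
  if h : ∃ b, b < 4 ∧ Commute y (L.p i b) then h.choose else 0

theorem sec_lt (y : G) (i : ℕ) : L.sec y i < 4 := by
  unfold sec
  split
  · next h => exact h.choose_spec.1
  · norm_num

variable [Finite G]
include L

theorem sec_comm {y : G} (hy : y ∈ farS D z) {i : ℕ} (hi : i < 45) :
    Commute y (L.p i (L.sec y i)) := by
  obtain ⟨⟨hyD, x, hx, h1, h2⟩, hyz⟩ := hy
  have h := L.covered hyD hyz hx h1 h2 hi
  rw [sec, dif_pos h]
  exact h.choose_spec.2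

theorem sec_unique {y : G} (hy : y ∈ farS D z) {i a : ℕ} (hi : i < 45) (ha : a < 4)
    (h : Commute y (L.p i a)) : L.sec y i = a := by
  by_contra hne
  exact hy.2 (L.comm_z_of_two hy.1.1 hi (L.sec_lt y i) ha hne (L.sec_comm hy hi) h)

theorem comm_iff_sec {y : G} (hy : y ∈ farS D z) {i a : ℕ} (hi : i < 45) (ha : a < 4) :
    Commute y (L.p i a) ↔ L.sec y i = a :=
  ⟨L.sec_unique hy hi ha, fun h => h ▸ L.sec_comm hy hi⟩

theorem far_nbrs {i a : ℕ} (hi : i < 45) (ha : a < 4) :
    {y | y ∈ farS D z ∧ Commute y (L.p i a)}.ncard = 128 := by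
  set w := L.p i a
  have hwD : w ∈ D := L.p_D i a hi ha
  set M := L.atMem w hwD
  obtain ⟨k₀, c₀, hk₀, hc₀, ez⟩ :=
    M.p_surj z L.mem (L.z_comm i a hi ha).symm (L.p_ne i a hi ha).symm
  set S := ((List.range 45).filter fun k => !perpB k₀ k).toFinset ×ˢ Finset.range 4
  have hS : ∀ q ∈ S, q.1 < 45 ∧ q.2 < 4 ∧ perpB k₀ q.1 = false := fun q hq => by
    simp only [S, Finset.mem_product, List.mem_toFinset, List.mem_filter, List.mem_range,
      Bool.not_eq_true', Finset.mem_range] at hq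
    exact ⟨hq.1.1, hq.2, hq.1.2⟩
  have e : {y | y ∈ farS D z ∧ Commute y w} = (fun q : ℕ × ℕ => M.p q.1 q.2) '' ↑S := by
    ext y
    constructor
    · rintro ⟨⟨hy, hyz⟩, hyw⟩
      have hne : y ≠ w := fun t => hyz (t ▸ (L.z_comm i a hi ha).symm)
      obtain ⟨k, c, hk, hc, ey⟩ := M.p_surj y hy.1 hyw.symm hne
      refine ⟨(k, c), ?_, ey⟩
      have hp : perpB k₀ k = false := by
        by_contra h
        rw [Bool.not_eq_false] at h
        exact hyz (ey ▸ ez ▸ ((M.comm k₀ k c₀ c hk₀ hk hc₀ hc).2 h).symm)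
      simp [S, hk, hc, hp]
    · rintro ⟨q, hq, rfl⟩
      obtain ⟨hk, hc, hp⟩ := hS q hq
      have hcw : Commute w (M.p q.1 q.2) := M.z_comm _ _ hk hc
      refine ⟨⟨⟨M.p_D _ _ hk hc, w, hwD, L.z_comm i a hi ha, hcw⟩, fun h => ?_⟩, hcw.symm⟩
      rw [← ez, Commute.symm_iff, M.comm k₀ q.1 c₀ q.2 hk₀ hk hc₀ hc, hp] at h
      exact Bool.false_ne_true h
  rw [e, Set.ncard_image_of_injOn (fun q hq r hr t => by
      obtain ⟨h1, h2⟩ := M.p_inj _ _ _ _ (hS q hq).1 (hS r hr).1 (hS q hq).2.1 (hS r hr).2.1 t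
      exact Prod.ext h1 h2), Set.ncard_coe_finset, Finset.card_product,
    List.toFinset_card_of_nodup (List.nodup_range.filter _), gq_nonperp ⟨k₀, hk₀⟩, Finset.card_range]

theorem card_far : (farS D z).ncard = 512 := by
  obtain ⟨F, hF⟩ : ∃ F : Finset G, ∀ y, y ∈ F ↔ y ∈ farS D z :=
    ⟨(Set.toFinite (farS D z)).toFinset, fun y => (Set.toFinite (farS D z)).mem_toFinset⟩
  obtain ⟨I, hI, hIc⟩ : ∃ I : Finset (ℕ × ℕ), (∀ q, q ∈ I ↔ q.1 < 45 ∧ q.2 < 4) ∧ I.card = 180 :=
    ⟨Finset.range 45 ×ˢ Finset.range 4, fun q => by simp,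
      by rw [Finset.card_product, Finset.card_range, Finset.card_range]⟩
  have key := Finset.sum_card_bipartiteAbove_eq_sum_card_bipartiteBelow (s := I) (t := F)
    (fun q y => Commute y (L.p q.1 q.2))
  have h1 : ∀ q ∈ I, (F.bipartiteAbove (fun q y => Commute y (L.p q.1 q.2)) q).card = 128 := by
    intro q hq
    rw [← Set.ncard_coe_finset, Finset.coe_bipartiteAbove]
    refine Eq.trans (congrArg Set.ncard (Set.ext fun y => ?_)) (L.far_nbrs ((hI q).1 hq).1 ((hI q).1 hq).2)
    exact and_congr (hF y) Iff.rfl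
  have h2 : ∀ y ∈ F, (I.bipartiteBelow (fun q y => Commute y (L.p q.1 q.2)) y).card = 45 := by
    intro y hy
    have hy' := (hF y).1 hy
    have : I.bipartiteBelow (fun q y => Commute y (L.p q.1 q.2)) y =
        (Finset.range 45).image fun i => (i, L.sec y i) := by
      ext ⟨i, a⟩
      simp only [Finset.bipartiteBelow, Finset.mem_filter, hI, Finset.mem_image, Finset.mem_range,
        Prod.mk.injEq]
      constructor
      · rintro ⟨⟨hi, ha⟩, h⟩; exact ⟨i, hi, rfl, L.sec_unique hy' hi ha h⟩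
      · rintro ⟨j, hj, rfl, rfl⟩; exact ⟨⟨hj, L.sec_lt y j⟩, L.sec_comm hy' hj⟩
    rw [this, Finset.card_image_of_injective _ (fun a b h => (Prod.ext_iff.1 h).1), Finset.card_range]
  rw [Finset.sum_congr rfl h1, Finset.sum_congr rfl h2] at key
  simp only [Finset.sum_const, smul_eq_mul, hIc] at key
  have hc : (farS D z).ncard = F.card := by
    rw [← Set.ncard_coe_finset]
    exact congrArg Set.ncard (Set.ext fun y => (hF y).symm)
  omega

theorem comp_near_eq : compS D z \ farS D z =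
    insert z ((fun q : ℕ × ℕ => L.p q.1 q.2) '' ↑(Finset.range 45 ×ˢ Finset.range 4)) := by
  ext y
  simp only [farS, Set.mem_sdiff, Set.mem_ofPred_eq, Set.mem_insert_iff, Set.mem_image,
    Finset.coe_product, Set.mem_prod, Finset.coe_range, Set.mem_Iio, Prod.exists]
  constructor
  · rintro ⟨hy, h⟩
    have hc : Commute y z := by by_contra t; exact h ⟨hy, t⟩
    rcases L.eq_z_or_p hy.1 hc.symm with e | ⟨i, a, hi, ha, e⟩
    · exact .inl e
    · exact .inr ⟨i, a, ⟨hi, ha⟩, e⟩
  · rintro (rfl | ⟨i, a, ⟨hi, ha⟩, rfl⟩)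
    · exact ⟨L.mem_comp_self, fun h => h.2 (Commute.refl _)⟩
    · exact ⟨L.mem_comp_of_commute L.mem_comp_self (L.p_D i a hi ha) (L.z_comm i a hi ha),
        fun h => h.2 (L.z_comm i a hi ha).symm⟩

/-- The component has 693 members. -/
theorem card_comp : (compS D z).ncard = 693 := by
  have hsub : farS D z ⊆ compS D z := fun y hy => hy.1
  rw [← Set.ncard_sdiff_add_ncard_of_subset hsub (Set.toFinite _), L.card_far, L.comp_near_eq,
    Set.ncard_insert_of_notMem _ (Set.toFinite _), Set.ncard_image_of_injOn (fun q hq r hr t => by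
      simp only [Finset.coe_product, Set.mem_prod, Finset.coe_range, Set.mem_Iio] at hq hr
      obtain ⟨h1, h2⟩ := L.p_inj _ _ _ _ hq.1 hr.1 hq.2 hr.2 t
      exact Prod.ext h1 h2), Set.ncard_coe_finset, Finset.card_product, Finset.card_range,
    Finset.card_range]
  rintro ⟨q, hq, e⟩
  simp only [Finset.coe_product, Set.mem_prod, Finset.coe_range, Set.mem_Iio] at hq
  exact L.p_ne _ _ hq.1 hq.2 e

theorem exists_far : (farS D z).Nonempty := by
  rw [← Set.ncard_pos (Set.toFinite _), L.card_far]; norm_num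

/-- An element conjugating the component into itself at one point stabilises it; `z` fixes a member
of every component that it stabilises. -/
theorem fix_unique {a : G} (ha : a ∈ D)
    (h : ∀ y ∈ compS D a, z * y * z⁻¹ ∈ compS D a) : compS D a = compS D z := by
  set M := L.atMem a ha
  have hz2 : z * z = 1 := by
    rw [← pow_two, ← L.inv z L.mem]; exact pow_orderOf_eq_one z
  have hzi : z⁻¹ = z := inv_eq_of_mul_eq_one_right hz2
  let f : Function.End ↥(compS D a) := fun y => ⟨z * y.1 * z⁻¹, h _ y.2⟩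
  have hinv : Function.Involutive f := fun y => Subtype.ext (by
    show z * (z * y.1 * z⁻¹) * z⁻¹ = y.1
    rw [hzi, ← mul_assoc, ← mul_assoc, hz2, one_mul, mul_assoc, hz2, mul_one])
  haveI := Fintype.ofFinite ↥(compS D a)
  haveI : Fact (Nat.Prime 2) := ⟨Nat.prime_two⟩
  have hc : ¬ 2 ∣ Fintype.card ↥(compS D a) := by
    rw [← Nat.card_eq_fintype_card, Nat.card_coe_set_eq, M.card_comp]; norm_num
  obtain ⟨y, hy⟩ := Equiv.Perm.exists_fixed_point_of_prime (n := 1) hc (σ := hinv.toPerm _)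
    (Equiv.ext fun y => by simp [pow_succ, Function.Involutive.toPerm]; exact hinv y)
  have hyc : Commute z y.1 := by
    have : z * y.1 * z⁻¹ = y.1 := congrArg Subtype.val hy
    exact mul_inv_eq_iff_eq_mul.1 this
  have hy' : y.1 ∈ compS D z := L.mem_comp_of_commute L.mem_comp_self y.2.1 hyc
  rw [← M.comp_eq y.2, L.comp_eq hy']

end Loc

end Cfsg.Agent.U6Recog
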