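import Cfsg.Agent.Lib.Presented.FiU6
import Cfsg.Agent.Lib.Transpos.SUThreeTwo

/-!
# A group generated by 693 involutions commuting like the isotropic points of `GF(4)⁶`

Conjugation by a member fixes the members commuting with it.  In the unitary space two points not
perpendicular to `v` with the same perpendicular points in `v⊥` lie on one line with `v`, so
conjugation by the member at `v` is the transvection at `v`, and the group is `PSU₆(2)`.
-/

set_option autoImplicit false

namespace Cfsg.Agent.U6Recog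

open Matrix Cfsg.Agent.Presented

/-- The form, linear in the second variable. -/
noncomputable abbrev hB (u x : Fin 6 → FiU6.K) : FiU6.K := Forms.hermB FiU6.hK 6 u x

theorem hB_swap (u x : Fin 6 → FiU6.K) : hB x u = hB u x ^ 2 := by
  rw [hB, hB, Forms.hermB_apply, Forms.hermB_apply, ← Forms.qEnd_apply FiU6.hK,
    Forms.hermForm_swap FiU6.hK]

theorem hB_eq_zero_comm {u x : Fin 6 → FiU6.K} : hB u x = 0 ↔ hB x u = 0 := by
  rw [hB_swap u x, pow_eq_zero_iff two_ne_zero]

theorem hB_add_left (u v x : Fin 6 → FiU6.K) : hB (u + v) x = hB u x + hB v x := by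
  simp [hB, map_add, LinearMap.add_apply]

theorem hB_smul_left (c : FiU6.K) (u x : Fin 6 → FiU6.K) : hB (c • u) x = c ^ 2 * hB u x := by
  simp [hB, map_smulₛₗ, LinearMap.smul_apply, smul_eq_mul, Forms.qEnd_apply]

theorem hB_add_right (u x y : Fin 6 → FiU6.K) : hB u (x + y) = hB u x + hB u y := by
  simp [hB]

theorem hB_smul_right (c : FiU6.K) (u x : Fin 6 → FiU6.K) : hB u (c • x) = c * hB u x := by
  simp [hB]

theorem exists_hB_ne_zero {u : Fin 6 → FiU6.K} (hu : u ≠ 0) : ∃ z, hB u z ≠ 0 := by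
  obtain ⟨i, hi⟩ := Function.ne_iff.1 hu
  refine ⟨Pi.single i 1, ?_⟩
  simp only [hB, Forms.hermB_apply, Cfsg.hermForm, Pi.single_apply, ite_mul, one_mul, zero_mul,
    Finset.sum_ite_eq', Finset.mem_univ, if_true]
  exact pow_ne_zero 2 hi

theorem neg_eq (a : FiU6.K) : -a = a := neg_eq_of_add_eq_zero_left (FiU6.add_self a)

theorem vadd_self (v : Fin 6 → FiU6.K) : v + v = 0 := funext fun _ => FiU6.add_self _

theorem self_sq (x : Fin 6 → FiU6.K) : hB x x ^ 2 = hB x x := (hB_swap x x).symm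

theorem solve_trace : ∀ q h : FiU6.K, q ^ 2 = q → h ≠ 0 →
    ∃ c : FiU6.K, q + c * h + c ^ 2 * h ^ 2 = 0 := by decide +kernel

theorem trace_zero : ∀ t : FiU6.K, (∀ c : FiU6.K, c * t + c ^ 2 * t ^ 2 = 0) → t = 0 := by
  decide +kernel

theorem eq_one_of_sq : ∀ q : FiU6.K, q ^ 2 = q → q ≠ 0 → q = 1 := by decide +kernel

theorem isotropic_line : ∀ h γ : FiU6.K, h ≠ 0 → γ * h + γ ^ 2 * h ^ 2 = 0 →
    γ = 0 ∨ γ = h ^ 2 := by decide +kernel

theorem expand (x y : Fin 6 → FiU6.K) (c : FiU6.K) :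
    hB (x + c • y) (x + c • y) = hB x x + c * hB x y + c ^ 2 * hB x y ^ 2 + c ^ 3 * hB y y := by
  rw [hB_add_left, hB_add_right, hB_add_right, hB_smul_left, hB_smul_left, hB_smul_right,
    hB_smul_right, hB_swap x y]
  ring

/-- Projection to the orthogonal of the plane of `v`, `w`. -/
noncomputable def proj (v w z : Fin 6 → FiU6.K) : Fin 6 → FiU6.K :=
  z + (hB w z / hB w v) • v + (hB v z / hB v w) • w

theorem hB_proj {v w : Fin 6 → FiU6.K} (hv : hB v v = 0) (hw : hB w w = 0) (hvw : hB v w ≠ 0)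
    (z : Fin 6 → FiU6.K) : hB v (proj v w z) = 0 ∧ hB w (proj v w z) = 0 := by
  have hwv : hB w v ≠ 0 := fun h => hvw (hB_eq_zero_comm.1 h)
  constructor <;> simp only [proj, hB_add_right, hB_smul_right, hv, hw, mul_zero, add_zero]
  · rw [div_mul_cancel₀ _ hvw, FiU6.add_self]
  · rw [div_mul_cancel₀ _ hwv, FiU6.add_self]

/-- Two points with the same perpendicular points in `v⊥`. -/
theorem eq_or_eq_tm {v w w' : Fin 6 → FiU6.K} (hv : hB v v = 0) (hw : hB w w = 0)
    (hw' : hB w' w' = 0) (hvw : hB v w ≠ 0) (hvw' : hB v w' ≠ 0)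
    (h : ∀ x, x ≠ 0 → hB x x = 0 → hB v x = 0 → (hB w x = 0 ↔ hB w' x = 0)) :
    ∃ c : FiU6.K, w' = c • w ∨ w' = c • (FiU6.tm v *ᵥ w) := by
  have hwv : hB w v ≠ 0 := fun e => hvw (hB_eq_zero_comm.1 e)
  obtain ⟨α, β, rfl⟩ : ∃ α β : FiU6.K, w' = α • v + β • w := by
    refine ⟨hB w w' / hB w v, hB v w' / hB v w, ?_⟩
    set u := proj v w w' with hu
    obtain ⟨huv, huw⟩ := hB_proj hv hw hvw w'
    rw [← hu] at huv huw
    have hperp : ∀ x, hB x x = 0 → hB v x = 0 → hB w x = 0 → hB u x = 0 := by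
      intro x hxx hvx hwx
      rcases eq_or_ne x 0 with rfl | hx
      · simp [hB]
      rw [hu, proj, hB_add_left, hB_add_left, hB_smul_left, hB_smul_left, hvx, hwx,
        (h x hx hxx hvx).1 hwx]
      ring
    suffices hu0 : u = 0 by
      rw [hu, proj, add_assoc] at hu0
      exact (eq_neg_of_add_eq_zero_left hu0).trans (funext fun i => neg_eq _)
    by_contra hu0
    obtain ⟨z, hz⟩ := exists_hB_ne_zero hu0
    by_cases hq : hB u u = 0
    · obtain ⟨z1, hz1v, hz1w, hz1⟩ : ∃ z1, hB v z1 = 0 ∧ hB w z1 = 0 ∧ hB u z1 ≠ 0 := by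
        refine ⟨proj v w z, (hB_proj hv hw hvw z).1, (hB_proj hv hw hvw z).2, ?_⟩
        rw [proj, hB_add_right, hB_add_right, hB_smul_right, hB_smul_right, hB_eq_zero_comm.1 huv,
          hB_eq_zero_comm.1 huw]
        simpa using hz
      have hne : hB z1 u ≠ 0 := fun e => hz1 (hB_eq_zero_comm.1 e)
      obtain ⟨c, hc⟩ := solve_trace (hB z1 z1) (hB z1 u) (self_sq z1) hne
      refine hz1 ?_
      have := hperp (z1 + c • u) (by rw [expand, hq, mul_zero, add_zero]; exact hc)
        (by rw [hB_add_right, hB_smul_right, hz1v, huv, mul_zero, add_zero])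
        (by rw [hB_add_right, hB_smul_right, hz1w, huw, mul_zero, add_zero])
      rwa [hB_add_right, hB_smul_right, hq, mul_zero, add_zero] at this
    · have hq1 : hB u u = 1 := eq_one_of_sq _ (self_sq u) hq
      have hiso : ∀ x, hB v x = 0 → hB w x = 0 → hB u x = 0 → hB x x = 0 := by
        intro x hxv hxw hxu
        by_contra hxx
        have h1 : hB x x = 1 := eq_one_of_sq _ (self_sq x) hxx
        have := hperp (u + x)
          (by rw [hB_add_left, hB_add_right, hB_add_right, hq1, h1, hxu, hB_eq_zero_comm.1 hxu,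
            add_zero, zero_add, FiU6.add_self])
          (by rw [hB_add_right, huv, hxv, add_zero]) (by rw [hB_add_right, huw, hxw, add_zero])
        rw [hB_add_right, hq1, hxu, add_zero] at this
        exact one_ne_zero this
      let p : (Fin 6 → FiU6.K) → (Fin 6 → FiU6.K) := fun z =>
        proj v w z + hB u (proj v w z) • u
      have hp : ∀ z, hB v (p z) = 0 ∧ hB w (p z) = 0 ∧ hB u (p z) = 0 := fun z => by
        obtain ⟨a, b⟩ := hB_proj hv hw hvw z
        refine ⟨?_, ?_, ?_⟩ <;> simp only [p, hB_add_right, hB_smul_right, a, b, huv, huw, hq1,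
          mul_zero, add_zero, mul_one, FiU6.add_self]
      have hzero : ∀ z z', hB (p z) (p z') = 0 := fun z z' => by
        obtain ⟨a, b, c⟩ := hp z
        obtain ⟨a', b', c'⟩ := hp z'
        refine trace_zero _ fun t => ?_
        have e := hiso (p z + t • p z') (by rw [hB_add_right, hB_smul_right, a, a', mul_zero, add_zero])
          (by rw [hB_add_right, hB_smul_right, b, b', mul_zero, add_zero])
          (by rw [hB_add_right, hB_smul_right, c, c', mul_zero, add_zero])
        rwa [expand, hiso _ a b c, hiso _ a' b' c', mul_zero, add_zero, zero_add] at e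
      have hp0 : ∀ z, p z = 0 := fun z => by
        by_contra hne
        obtain ⟨y, hy⟩ := exists_hB_ne_zero hne
        obtain ⟨a, b, c⟩ := hp z
        have h0 := hzero z y
        rw [show p y = proj v w y + hB u (proj v w y) • u from rfl, hB_add_right, hB_smul_right,
          hB_eq_zero_comm.1 c, mul_zero, add_zero, proj, hB_add_right, hB_add_right, hB_smul_right,
          hB_smul_right, hB_eq_zero_comm.1 a, hB_eq_zero_comm.1 b, mul_zero, mul_zero, add_zero,
          add_zero] at h0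
        exact hy h0
      have hspan : (⊤ : Submodule FiU6.K (Fin 6 → FiU6.K)) ≤
          Submodule.span FiU6.K (Set.range ![v, w, u]) := by
        intro z _
        have e := hp0 z
        simp only [p, proj, add_assoc] at e
        rw [eq_neg_of_add_eq_zero_left e]
        have hm : ∀ i : Fin 3, ![v, w, u] i ∈ Submodule.span FiU6.K (Set.range ![v, w, u]) :=
          fun i => Submodule.subset_span ⟨i, rfl⟩
        exact Submodule.neg_mem _ (Submodule.add_mem _ (Submodule.smul_mem _ _ (hm 0))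
          (Submodule.add_mem _ (Submodule.smul_mem _ _ (hm 1)) (Submodule.smul_mem _ _ (hm 2))))
      have hr := Submodule.finrank_mono hspan
      rw [finrank_top, Module.finrank_pi] at hr
      have := finrank_range_le_card (R := FiU6.K) ![v, w, u]
      simp only [Fintype.card_fin] at hr this
      have : (6 : ℕ) ≤ 3 := hr.trans this
      omega
  have hβ : β ≠ 0 := fun e => hvw' (by rw [hB_add_right, hB_smul_right, hB_smul_right, hv, e]; ring)
  have hsplit : α • v + β • w = β • (w + (α / β) • v) := by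
    rw [smul_add, smul_smul, mul_div_cancel₀ _ hβ, add_comm]
  rw [hsplit, hB_smul_left, hB_smul_right] at hw'
  have h0 : hB (w + (α / β) • v) (w + (α / β) • v) = 0 := by
    simpa [hβ] using hw'
  rw [expand, hw, hv, mul_zero, add_zero, zero_add] at h0
  refine ⟨β, ?_⟩
  rw [hsplit]
  rcases isotropic_line _ _ hwv h0 with e | e
  · left; rw [e, zero_smul, add_zero]
  · right; rw [e, ← hB_swap, FiU6.tm_mulVec]

theorem exists_smul_of_tm_eq {v v' : Fin 6 → FiU6.K} (hv : v ≠ 0) (h : FiU6.tm v = FiU6.tm v') :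
    ∃ c : FiU6.K, v = c • v' := by
  obtain ⟨z, hz⟩ := exists_hB_ne_zero hv
  have e := congrArg (· *ᵥ z) h
  simp only [FiU6.tm_mulVec, add_right_inj] at e
  refine ⟨(hB v z)⁻¹ * hB v' z, ?_⟩
  rw [mul_smul, ← e, smul_smul, inv_mul_cancel₀ hz, one_smul]

/-! ### The members -/

variable {G : Type*} [Group G]

/-- 693 involutions closed under conjugation, labelled by the isotropic points. -/
structure Data (S : Set G) (phi : G → Fin 6 → FiU6.K) : Prop where
  hinv : ∀ a ∈ S, orderOf a = 2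
  hconj : ∀ a ∈ S, ∀ b ∈ S, a * b * a⁻¹ ∈ S
  hcard : Nat.card S = 693
  hne : ∀ a ∈ S, phi a ≠ 0
  hiso : ∀ a ∈ S, Cfsg.hermForm 6 FiU6.K 2 (phi a) (phi a) = 0
  hinj : ∀ a ∈ S, ∀ b ∈ S, ∀ c : FiU6.K, phi b = c • phi a → a = b
  hcomm : ∀ a ∈ S, ∀ b ∈ S, (Commute a b ↔ Cfsg.hermForm 6 FiU6.K 2 (phi a) (phi b) = 0)
  hfaith : ∀ g ∈ Subgroup.closure S, (∀ a ∈ S, Commute g a) → g = 1

namespace Data

variable {S : Set G} {phi : G → Fin 6 → FiU6.K} (D : Data S phi)
include D

theorem self (a : S) : hB (phi a) (phi a) = 0 := FiU6.hermB_of (D.hiso a a.2)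

theorem commute_iff {a b : G} (ha : a ∈ S) (hb : b ∈ S) :
    Commute a b ↔ hB (phi a) (phi b) = 0 := by
  rw [D.hcomm a ha b hb, hB_eq_zero_comm, hB, Forms.hermB_apply]

theorem mul_self {a : G} (ha : a ∈ S) : a * a = 1 := by
  have := pow_orderOf_eq_one a
  rwa [D.hinv a ha, pow_two] at this

theorem exists_label (a : S) :
    ∃ (k : Fin 693) (c : FiU6.K), c ≠ 0 ∧ phi a = c • FiU6.vec (FiU6.pt k).1 := by
  obtain ⟨hv, hlt⟩ := FiU6.vec_code (phi a)
  have h := FiU6.index_spec (FiU6.code (phi a)) hlt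
  simp only [FiU6.idxProp, hv] at h
  obtain ⟨hk, hne, e⟩ := (h (D.hiso a a.2)).resolve_left (D.hne a a.2)
  exact ⟨⟨_, hk⟩, _, hne, e⟩

theorem exists_member {v : Fin 6 → FiU6.K} (hv : v ≠ 0) (h0 : hB v v = 0) :
    ∃ b : S, ∃ c : FiU6.K, c ≠ 0 ∧ v = c • phi b := by
  haveI : Finite S := Nat.finite_of_card_ne_zero (by rw [D.hcard]; norm_num)
  choose k c hc hphi using D.exists_label
  have hkinj : Function.Injective k := by
    intro a b e
    refine Subtype.ext (D.hinj a a.2 b b.2 (c b * (c a)⁻¹) ?_)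
    rw [hphi a, hphi b, e, smul_smul, inv_mul_cancel_right₀ (hc a)]
  have hksurj := ((Nat.bijective_iff_injective_and_card k).2
    ⟨hkinj, by rw [D.hcard, Nat.card_fin]⟩).2
  obtain ⟨hvc, hlt⟩ := FiU6.vec_code v
  have h := FiU6.index_spec (FiU6.code v) hlt
  simp only [FiU6.idxProp, hvc] at h
  obtain ⟨hk, hne, e⟩ := (h (by rwa [hB, Forms.hermB_apply] at h0)).resolve_left hv
  obtain ⟨b, hb⟩ := hksurj ⟨_, hk⟩
  refine ⟨b, _ * (c b)⁻¹, mul_ne_zero hne (inv_ne_zero (hc b)), ?_⟩
  rw [hphi b, smul_smul, inv_mul_cancel_right₀ (hc b), hb]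
  exact e

theorem phi_conj {a b : G} (ha : a ∈ S) (hb : b ∈ S) :
    ∃ c : FiU6.K, phi (a * b * a⁻¹) = c • (FiU6.tm (phi a) *ᵥ phi b) := by
  have hai : a⁻¹ = a := inv_eq_of_mul_eq_one_right (D.mul_self ha)
  by_cases hab : Commute a b
  · refine ⟨1, ?_⟩
    have e : hB (phi a) (phi b) = 0 := (D.commute_iff ha hb).1 hab
    rw [hab.eq, mul_inv_cancel_right, one_smul, FiU6.tm_mulVec]
    show phi b = phi b + hB (phi a) (phi b) • phi a
    rw [e, zero_smul, add_zero]
  · have hb' := D.hconj a ha b hb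
    have hne : ¬ Commute a (a * b * a⁻¹) := by
      intro h
      refine hab ?_
      have := (Commute.conj_iff a⁻¹).2 h
      simpa [mul_assoc] using this
    obtain ⟨c, h | h⟩ := eq_or_eq_tm (D.self ⟨a, ha⟩) (D.self ⟨b, hb⟩) (D.self ⟨_, hb'⟩)
      (fun e => hab ((D.commute_iff ha hb).2 e)) (fun e => hne ((D.commute_iff ha hb').2 e))
      (fun x hx hxx hax => by
        obtain ⟨⟨d, hd⟩, t, ht, rfl⟩ := D.exists_member hx hxx
        rw [hB_smul_right, mul_eq_zero, or_iff_right ht] at hax ⊢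
        rw [hB_smul_right, mul_eq_zero, or_iff_right ht, ← D.commute_iff hb hd,
          ← D.commute_iff hb' hd]
        have had : a * d * a⁻¹ = d := by
          rw [((D.commute_iff ha hd).2 hax).eq, mul_inv_cancel_right]
        conv_rhs => rw [← had]
        exact (Commute.conj_iff a).symm)
    · refine absurd ?_ hab
      have e := D.hinj b hb _ hb' c h
      exact (mul_inv_eq_iff_eq_mul.1 e.symm)
    · exact ⟨c, h⟩

/-- The transvection of a member. -/
noncomputable def trv (a : S) : FiU6.SU6 :=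
  FiU6.mkT (phi a) (D.hne a a.2) (FiU6.hermB_of (D.hiso a a.2))

theorem toM_trv (a : S) : FiU6.toM (D.trv a) = FiU6.tm (phi a) := rfl

theorem trv_inj : Function.Injective D.trv := by
  intro a b h
  have e : FiU6.tm (phi a) = FiU6.tm (phi b) := congrArg FiU6.toM h
  obtain ⟨c, hc⟩ := exists_smul_of_tm_eq (D.hne a a.2) e
  exact Subtype.ext (D.hinj b b.2 a a.2 c hc).symm

theorem exists_trv_conj (A : FiU6.SU6) (a : S) : ∃ b, D.trv b = A * D.trv a * A⁻¹ := by
  have hv : FiU6.toM A *ᵥ phi a ≠ 0 := fun e => D.hne a a.2 (by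
    have := congrArg (FiU6.toM A⁻¹ *ᵥ ·) e
    simpa [Matrix.mulVec_mulVec, ← map_mul] using this)
  have h0 : hB (FiU6.toM A *ᵥ phi a) (FiU6.toM A *ᵥ phi a) = 0 :=
    ((ClassicalSimple.mem_SU_iff FiU6.hK A.1).1 A.2 _ _).trans (D.self a)
  obtain ⟨b, c, hc, e⟩ := D.exists_member hv h0
  refine ⟨b, FiU6.toM_injective ?_⟩
  rw [D.toM_trv, map_mul, map_mul, D.toM_trv, FiU6.conj_tm, e, FiU6.tm_smul hc]

theorem closure_trv : Subgroup.closure (Set.range D.trv) = ⊤ := by
  rw [eq_top_iff, ← FiU6.gen8_eq_top, FiU6.gen8, Subgroup.closure_le]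
  rintro _ ⟨g, hg, rfl⟩
  obtain ⟨h1, h2, -⟩ := FiU6.v8_ok ⟨g, hg⟩
  obtain ⟨b, c, hc, e⟩ := D.exists_member h2 (FiU6.hermB_of h1)
  refine Subgroup.subset_closure ⟨b, FiU6.toM_injective ?_⟩
  have hg' : g < 8 := hg
  rw [D.toM_trv, FiU6.uS, dif_pos hg']
  show _ = FiU6.tm (FiU6.v8 g)
  rw [show FiU6.v8 g = c • phi b from e, FiU6.tm_smul hc]

/-- The action of `SU₆(2)` on the members. -/
noncomputable def suFun (A : FiU6.SU6) (a : S) : S := (D.exists_trv_conj A a).choose

theorem trv_suFun (A : FiU6.SU6) (a : S) : D.trv (D.suFun A a) = A * D.trv a * A⁻¹ :=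
  (D.exists_trv_conj A a).choose_spec

/-- The action as a homomorphism. -/
noncomputable def suHom : FiU6.SU6 →* Equiv.Perm S :=
  MonoidHom.mk' (fun A =>
    ⟨D.suFun A, D.suFun A⁻¹,
      fun a => D.trv_inj (by rw [D.trv_suFun, D.trv_suFun]; group),
      fun a => D.trv_inj (by rw [D.trv_suFun, D.trv_suFun]; group)⟩)
    fun A B => Equiv.ext fun a => D.trv_inj (by
      show D.trv (D.suFun (A * B) a) = D.trv (D.suFun A (D.suFun B a))
      rw [D.trv_suFun, D.trv_suFun, D.trv_suFun]; group)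

theorem ker_suHom : D.suHom.ker = Subgroup.center FiU6.SU6 := by
  ext A
  rw [MonoidHom.mem_ker]
  constructor
  · intro h
    have hle : Subgroup.closure (Set.range D.trv) ≤ Subgroup.centralizer {A} := by
      rw [Subgroup.closure_le]
      rintro _ ⟨a, rfl⟩
      have e := D.trv_suFun A a
      rw [show D.suFun A a = a from DFunLike.congr_fun h a] at e
      exact Subgroup.mem_centralizer_singleton_iff.2 (eq_mul_inv_iff_mul_eq.1 e)
    rw [D.closure_trv, top_le_iff] at hle
    refine Subgroup.mem_center_iff.2 fun B => ?_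
    exact Subgroup.mem_centralizer_singleton_iff.1 (hle ▸ Subgroup.mem_top B)
  · intro h
    refine Equiv.ext fun a => D.trv_inj ?_
    show D.trv (D.suFun A a) = D.trv a
    rw [D.trv_suFun, ← Subgroup.mem_center_iff.1 h (D.trv a), mul_inv_cancel_right]

theorem conj_mem {g : G} (hg : g ∈ Subgroup.closure S) {b : G} (hb : b ∈ S) :
    g * b * g⁻¹ ∈ S ∧ g⁻¹ * b * g ∈ S := by
  induction hg using Subgroup.closure_induction generalizing b with
  | mem x hx =>
    have e : x⁻¹ = x := inv_eq_of_mul_eq_one_right (D.mul_self hx)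
    refine ⟨D.hconj x hx b hb, ?_⟩
    have := D.hconj x hx b hb
    rw [e] at this ⊢; exact this
  | one => simpa using hb
  | mul x y _ _ hx hy =>
    refine ⟨?_, ?_⟩
    · have := (hx (hy hb).1).1; simpa [mul_assoc] using this
    · have := (hy (hx hb).2).2; simpa [mul_assoc] using this
  | inv x _ hx => exact ⟨by simpa using (hx hb).2, by simpa using (hx hb).1⟩

/-- Conjugation of the members. -/
noncomputable def conjHom : Subgroup.closure S →* Equiv.Perm S :=
  MonoidHom.mk' (fun g =>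
    ⟨fun b => ⟨g * b * (g : G)⁻¹, (D.conj_mem g.2 b.2).1⟩,
      fun b => ⟨(g : G)⁻¹ * b * g, (D.conj_mem g.2 b.2).2⟩,
      fun b => Subtype.ext (by simp [mul_assoc]), fun b => Subtype.ext (by simp [mul_assoc])⟩)
    fun g k => Equiv.ext fun b => Subtype.ext (by simp [mul_assoc])

theorem conjHom_injective : Function.Injective D.conjHom := by
  refine (injective_iff_map_eq_one _).2 fun g hg => Subtype.ext (D.hfaith g g.2 fun a ha => ?_)
  have e : (g : G) * a * (g : G)⁻¹ = a := by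
    show ((D.conjHom g ⟨a, ha⟩ : S) : G) = a
    rw [hg]
    rfl
  exact mul_inv_eq_iff_eq_mul.1 e

theorem suHom_trv (a : S) : D.suHom (D.trv a) = D.conjHom ⟨a, Subgroup.subset_closure a.2⟩ := by
  refine Equiv.ext fun b => ?_
  let b' : S := ⟨a * b * (a : G)⁻¹, D.hconj a a.2 b b.2⟩
  show D.suFun (D.trv a) b = b'
  refine D.trv_inj ?_
  rw [D.trv_suFun]
  obtain ⟨c, hc⟩ := D.phi_conj a.2 b.2
  have hc0 : c ≠ 0 := fun e => D.hne _ b'.2 (by rw [hc, e, zero_smul])
  refine FiU6.toM_injective ?_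
  rw [map_mul, map_mul, D.toM_trv b, FiU6.conj_tm, D.toM_trv a, D.toM_trv b']
  show _ = FiU6.tm (phi ((a : G) * b * (a : G)⁻¹))
  rw [hc, FiU6.tm_smul hc0]

theorem range_eq : D.suHom.range = D.conjHom.range := by
  refine le_antisymm ?_ ?_
  · rw [MonoidHom.range_eq_map, ← D.closure_trv, Subgroup.map_le_iff_le_comap, Subgroup.closure_le]
    rintro _ ⟨a, rfl⟩
    exact ⟨_, (D.suHom_trv a).symm⟩
  · rw [MonoidHom.range_eq_map, ← Subgroup.closure_closure_coe_preimage (k := S),
      Subgroup.map_le_iff_le_comap, Subgroup.closure_le]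
    rintro ⟨a, ha'⟩ ha
    exact ⟨D.trv ⟨a, ha⟩, D.suHom_trv ⟨a, ha⟩⟩

end Data

/-- A group generated by 693 involutions commuting as isotropic points is `PSU₆(2)`. -/
theorem iso_psu {G : Type*} [Group G] [Finite G] (S : Set G) (phi : G → Fin 6 → FiU6.K)
    (hinv : ∀ a ∈ S, orderOf a = 2) (hconj : ∀ a ∈ S, ∀ b ∈ S, a * b * a⁻¹ ∈ S)
    (hcard : Nat.card S = 693) (hne : ∀ a ∈ S, phi a ≠ 0)
    (hiso : ∀ a ∈ S, Cfsg.hermForm 6 FiU6.K 2 (phi a) (phi a) = 0)
    (hinj : ∀ a ∈ S, ∀ b ∈ S, ∀ c : FiU6.K, phi b = c • phi a → a = b)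
    (hcomm : ∀ a ∈ S, ∀ b ∈ S, (Commute a b ↔ Cfsg.hermForm 6 FiU6.K 2 (phi a) (phi b) = 0))
    (hfaith : ∀ g ∈ Subgroup.closure S, (∀ a ∈ S, Commute g a) → g = 1)
    (F : Type) [Field F] [Fintype F] (hF : Fintype.card F = 4) :
    Nonempty (Subgroup.closure S ≃* Cfsg.PSU 6 F 2) := by
  have D : Data S phi := ⟨hinv, hconj, hcard, hne, hiso, hinj, hcomm, hfaith⟩
  obtain ⟨r⟩ : Nonempty (FiU6.K ≃+* F) :=
    ⟨FiniteField.ringEquivOfCardEq (G2Four.card_K4.trans hF.symm)⟩
  let φ := Transpos.SU32.suMap r 6 2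
  let e3 : Cfsg.PSU 6 FiU6.K 2 ≃* Cfsg.PSU 6 F 2 :=
    QuotientGroup.congr _ _ φ (by
    ext z
    simp only [Subgroup.mem_map, MulEquiv.coe_toMonoidHom, Subgroup.mem_center_iff]
    constructor
    · rintro ⟨y, hy, rfl⟩ w
      show w * φ y = φ y * w
      rw [← φ.apply_symm_apply w, ← map_mul, ← map_mul, hy]
    · intro hz
      exact ⟨φ.symm z, fun w => φ.injective (by simp [map_mul, hz]), φ.apply_symm_apply z⟩)
  exact ⟨((MonoidHom.ofInjective D.conjHom_injective).trans
    ((MulEquiv.subgroupCongr D.range_eq.symm).trans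
      ((QuotientGroup.quotientKerEquivRange D.suHom).symm.trans
        (QuotientGroup.quotientMulEquivOfEq D.ker_suHom)))).trans e3⟩

end Cfsg.Agent.U6Recog
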