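import Cfsg.Agent.Lib.U6Recog.Nbr
import Cfsg.Agent.Lib.U6Recog.CodeModel

/-! # The translations as products of the basis translations -/

set_option autoImplicit false
set_option maxRecDepth 20000

namespace Cfsg.Agent.U6Recog

variable {G : Type*} [Group G] {D : Set G} [Finite G] {z : G} {L : Loc D z} {y₀ : G}

namespace Based

variable (B : Based L y₀)
include B

/-- The generators: the translations at the basis vectors and the central element. -/
noncomputable def gen (i : ℕ) : G := if i < 8 then B.T (bas i) else z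

/-- The product given by the first `k` bits of a code. -/
noncomputable def P (x : ℕ) : ℕ → G
  | 0 => 1
  | k + 1 => if x.testBit k then P x k * B.gen k else P x k

/-- The translation with a code. -/
noncomputable def W (x : ℕ) : G := B.P x 9

/-- The central element or one. -/
noncomputable def zb (_B : Based L y₀) (e : Bool) : G := if e then z else 1

theorem gen_spec {i : ℕ} (hi : i < 9) :
    L.Tr (if i < 8 then bas i else 0) (B.gen i) ∧ B.gen i * B.gen i = 1 := by
  unfold gen
  split
  · next h =>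
    obtain ⟨h1, h2⟩ := bas_ok ⟨i, h⟩
    exact ⟨(B.T_spec h1 h2).1, B.T_sq h1 h2⟩
  · exact ⟨L.tr_z, L.z_sq⟩

theorem zb_comm (e : Bool) {i : ℕ} (hi : i < 9) : B.zb e * B.gen i = B.gen i * B.zb e := by
  cases e
  · simp [zb]
  · simpa [zb] using (B.gen_spec hi).1.1.eq.symm

theorem zb_xor (a b : Bool) : B.zb (Bool.xor a b) = B.zb a * B.zb b := by
  cases a <;> cases b <;> simp [zb, L.z_sq]

theorem gen_comm {i j : ℕ} (hi : i < 9) (hj : j < 9) :
    B.gen j * B.gen i = B.gen i * B.gen j * B.zb (betaB j i) := by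
  have hb := beta_ok ⟨j, hj⟩ ⟨i, hi⟩
  simp only at hb
  by_cases h : j < 8 ∧ i < 8
  · rw [if_pos h] at hb
    obtain ⟨a1, a2⟩ := bas_ok ⟨i, h.2⟩
    obtain ⟨b1, b2⟩ := bas_ok ⟨j, h.1⟩
    have hs := B.T_prod_sq b1 a1 b2 a2
    have he : B.zb (betaB j i) = B.gen j * B.gen i * (B.gen j * B.gen i) := by
      rw [show B.gen j = B.T (bas j) by simp [gen, h.1], show B.gen i = B.T (bas i) by simp [gen, h.2],
        hs, hb]
      by_cases hq : hN (bas j ^^^ bas i) (bas j ^^^ bas i) = 0 <;> simp [zb, hq]
    rw [he, show B.gen i * B.gen j * (B.gen j * B.gen i * (B.gen j * B.gen i)) =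
      B.gen i * (B.gen j * B.gen j) * B.gen i * (B.gen j * B.gen i) by group, (B.gen_spec hj).2,
      mul_one, (B.gen_spec hi).2, one_mul]
  · rw [if_neg h] at hb
    rw [hb]
    simp only [zb, Bool.false_eq_true, if_false, mul_one]
    rcases not_and_or.1 h with h' | h'
    · rw [show B.gen j = z by simp [gen, h']]; exact (B.gen_spec hi).1.1.eq.symm
    · rw [show B.gen i = z by simp [gen, h']]; exact (B.gen_spec hj).1.1.eq

theorem P_congr {x y : ℕ} : ∀ k, (∀ j < k, x.testBit j = y.testBit j) → B.P x k = B.P y k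
  | 0, _ => rfl
  | k + 1, h => by
    simp only [P, P_congr k (fun j hj => h j (by omega)), h k (by omega)]

theorem P_mul_gen {x i : ℕ} (hi : i < 9) : ∀ k, i < k → k ≤ 9 →
    B.P x k * B.gen i = B.P (x ^^^ 2 ^ i) k * B.zb (sgn x i k) := by
  intro k
  induction k with
  | zero => omega
  | succ k ih =>
    intro hik hk
    have hbit : ∀ j, j ≠ i → (x ^^^ 2 ^ i).testBit j = x.testBit j := fun j hj => by
      rw [Nat.testBit_xor, Nat.testBit_two_pow, decide_eq_false (Ne.symm hj)]; simp
    have hzero : ∀ m, m ≤ i → sgn x i m = false := by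
      intro m
      induction m with
      | zero => intro; rfl
      | succ m ihm => intro hm; rw [sgn, if_neg (fun h => by omega), ihm (by omega)]
    rcases Nat.lt_or_ge i k with hlt | hge
    · have h := ih hlt (by omega)
      simp only [P, sgn, hbit k (by omega), hlt, true_and]
      by_cases hb : x.testBit k = true
      · rw [if_pos hb, if_pos hb, if_pos hb, mul_assoc, B.gen_comm hi (show k < 9 by omega), B.zb_xor,
          ← mul_assoc, ← mul_assoc, h, mul_assoc (B.P (x ^^^ 2 ^ i) k), B.zb_comm _ (show k < 9 by omega)]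
        simp only [mul_assoc]
      · rw [if_neg hb, if_neg hb, if_neg hb, h]
    · obtain rfl : k = i := by omega
      have hsg : sgn x k (k + 1) = false := by rw [sgn, if_neg (fun h => by omega), hzero k le_rfl]
      rw [hsg]
      simp only [P, zb, Bool.false_eq_true, if_false, mul_one,
        B.P_congr k (fun j hj => (hbit j (by omega)).symm), Nat.testBit_xor, Nat.testBit_two_pow_self]
      cases x.testBit k <;> simp [mul_assoc, (B.gen_spec hi).2]

theorem W_step {x i : ℕ} (hi : i < 9) : B.W x * B.gen i = B.W (stepX x i) := by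
  rw [W, B.P_mul_gen hi 9 hi le_rfl, stepX]
  split
  · next h =>
    have e := B.P_mul_gen (x := x ^^^ 2 ^ i) (i := 8) (by norm_num) 9 (by norm_num) le_rfl
    have hs : sgn (x ^^^ 2 ^ i) 8 9 = false := by simp [sgn]
    rw [hs] at e
    simp only [gen, lt_self_iff_false, if_false, zb, Bool.false_eq_true, mul_one] at e
    simp only [zb, h, if_true]
    exact e
  · next h => simp [W, zb, h]

theorem W_mulP (x y : ℕ) : ∀ k, k ≤ 9 → B.W x * B.P y k = B.W (mulP x y k)
  | 0, _ => by simp [P, mulP]
  | k + 1, hk => by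
    simp only [P, mulP, forceN_eq]
    by_cases hb : y.testBit k = true
    · rw [if_pos hb, if_pos hb, ← mul_assoc, W_mulP x y k (by omega), B.W_step (by omega)]
    · rw [if_neg hb, if_neg hb, W_mulP x y k (by omega)]

theorem W_mul (x y : ℕ) : B.W x * B.W y = B.W (mulX x y) := B.W_mulP x y 9 le_rfl

theorem P_tr (x : ℕ) : ∀ k, k ≤ 9 → L.Tr (vecP x k) (B.P x k)
  | 0, _ => L.tr_one
  | k + 1, hk => by
    simp only [vecP, P]
    by_cases hb : x.testBit k = true
    · rw [if_pos hb, if_pos hb]
      convert (P_tr x k (by omega)).mul (B.gen_spec (i := k) (by omega)).1 using 2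
      split
      · rfl
      · obtain rfl : k = 8 := by omega
        rfl
    · rw [if_neg hb, if_neg hb]; exact P_tr x k (by omega)

theorem W_tr (x : ℕ) : L.Tr (vOf x) (B.W x) := B.P_tr x 9 le_rfl

theorem P_pow {i : ℕ} : ∀ k, i < k → B.P (2 ^ i) k = B.gen i
  | 0, h => by omega
  | k + 1, h => by
    have hp : ∀ m, m ≤ i → B.P (2 ^ i) m = 1 := by
      intro m
      induction m with
      | zero => intro; rfl
      | succ m ihm =>
        intro hm
        rw [P, if_neg (by rw [Nat.testBit_two_pow, decide_eq_false (by omega)]; simp), ihm (by omega)]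
    rcases Nat.lt_or_ge i k with hlt | hge
    · rw [P, if_neg (by rw [Nat.testBit_two_pow, decide_eq_false (by omega)]; simp)]
      exact P_pow k hlt
    · obtain rfl : k = i := by omega
      rw [P, if_pos (Nat.testBit_two_pow_self), hp k le_rfl, one_mul]

theorem W_flip (x : ℕ) : B.W (x ^^^ 256) = B.W x * z := by
  have := B.W_step (x := x) (i := 8) (by norm_num)
  have hs : sgn x 8 9 = false := by simp [sgn]
  simp only [gen, lt_self_iff_false, if_false, stepX, hs, Bool.false_eq_true] at this
  exact this.symm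

/-- An entry of the table is right. -/
def GoodEntry (q : ℕ × ℕ) : Prop :=
  q.1 < 256 ∧ singB q.1 = true ∧ B.W q.2 = B.T q.1

theorem good_fold : ∀ (ps l : List (ℕ × ℕ)), stepsB l ps = true → (∀ q ∈ l, B.GoodEntry q) →
    ∀ q ∈ ps.foldl deriveStep l, B.GoodEntry q
  | [], l, _, hl => hl
  | p :: ps, l, h, hl => by
    simp only [stepsB, Bool.and_eq_true] at h
    refine good_fold ps _ h.2 ?_
    obtain ⟨⟨⟨h1, h2⟩, h3⟩, h4⟩ : ((decide (p.1 < l.length) = true ∧ decide (p.2 < l.length) = true) ∧
        (hN (l.getD p.1 (0, 0)).1 (l.getD p.2 (0, 0)).1 == 0) = true) ∧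
        singB ((l.getD p.1 (0, 0)).1 ^^^ (l.getD p.2 (0, 0)).1) = true := by
      simpa only [stepB, Bool.and_eq_true] using h.1
    rw [decide_eq_true_eq] at h1 h2
    rw [beq_iff_eq] at h3
    have ga : B.GoodEntry (l.getD p.1 (0, 0)) :=
      hl _ (by rw [List.getD_eq_getElem _ _ h1]; exact List.getElem_mem h1)
    have gb : B.GoodEntry (l.getD p.2 (0, 0)) :=
      hl _ (by rw [List.getD_eq_getElem _ _ h2]; exact List.getElem_mem h2)
    intro q hq
    rw [deriveStep, List.mem_append, List.mem_singleton] at hq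
    rcases hq with hq | rfl
    · exact hl q hq
    · refine ⟨xor_lt256 ga.1 gb.1, h4, ?_⟩
      rw [← B.W_mul, ga.2.2, gb.2.2, B.T_mul ga.1 gb.1 ga.2.1 gb.2.1 h3 h4]

theorem good_tTab : ∀ q ∈ tTab, B.GoodEntry q := by
  refine B.good_fold derivs baseT stepsB_ok fun q hq => ?_
  simp only [baseT, List.mem_map, List.mem_range] at hq
  obtain ⟨i, hi, rfl⟩ := hq
  refine ⟨(bas_ok ⟨i, hi⟩).1, (bas_ok ⟨i, hi⟩).2, ?_⟩
  rw [W, B.P_pow 9 (by omega)]
  simp [gen, hi]

/-- The translation of a singular vector has a code in the table. -/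
theorem T_code {a : ℕ} (ha : a < 256) (hs : singB a = true) :
    ∃ c ∈ tCodes, c < 512 ∧ B.W c = B.T a := by
  have h := List.all_eq_true.1 tTab_ok.2.1 a (List.mem_range.2 ha)
  simp only [hs, Bool.not_true, Bool.false_or, List.any_eq_true, beq_iff_eq] at h
  obtain ⟨q, hq, e⟩ := h
  have h1 := List.all_eq_true.1 tTab_ok.1 q hq
  simp only [Bool.and_eq_true, decide_eq_true_eq] at h1
  refine ⟨q.2, tCodes_ok ▸ List.mem_map_of_mem hq, h1.1.2, ?_⟩
  rw [(B.good_tTab q hq).2.2, e]

end Based

end Cfsg.Agent.U6Recog
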