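import Cfsg.Agent.Lib.Presented.FiU6Iso

/-!
# Involutions and transvections of `PSU₆(2)`

Every involution commutes with a transvection; one which is not a transvection commutes with two that are
not conjugate under its centralizer (for `v = N x` the value `B x (N x)` is invariant).
-/

set_option autoImplicit false
set_option maxRecDepth 20000

namespace Cfsg.Agent.U6Recog.Split

open Matrix Cfsg.Agent.Presented Cfsg.Agent.Presented.FiU6 Cfsg.Agent.Presented.FiU6Iso

/-- The vectors. -/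
abbrev Vec : Type := Fin 6 → K

/-- The form, semilinear in the first variable. -/
noncomputable abbrev B (u v : Vec) : K := Forms.hermB hK 6 u v

/-- The class of transvections. -/
noncomputable abbrev D0 : Set PU := conjugatesOf (pu 0)

/-! ## The form -/

theorem addSelf {M : Type*} [AddCommMonoid M] [Module K M] (x : M) : x + x = 0 := by
  have := add_smul (1 : K) 1 x
  rw [FiU6.add_self, zero_smul, one_smul] at this
  exact this.symm

theorem B_smulL (c : K) (u v : Vec) : B (c • u) v = c ^ 2 * B u v := by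
  simp only [B, map_smulₛₗ, LinearMap.smul_apply, smul_eq_mul, Forms.qEnd_apply]

theorem B_smulR (c : K) (u v : Vec) : B u (c • v) = c * B u v := by
  simp only [B, map_smul, smul_eq_mul]

theorem B_addL (u u' v : Vec) : B (u + u') v = B u v + B u' v := by
  simp only [B, map_add, LinearMap.add_apply]

theorem B_addR (u v v' : Vec) : B u (v + v') = B u v + B u v' := by
  simp only [B, map_add]

theorem B_zeroL (v : Vec) : B 0 v = 0 := by
  simp only [B, map_zero, LinearMap.zero_apply]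

theorem B_zeroR (u : Vec) : B u 0 = 0 := by
  simp only [B, map_zero]

theorem B_swap (u v : Vec) : B v u = B u v ^ 2 := by
  rw [B, B, Forms.hermB_apply, Forms.hermB_apply, ← Forms.hermForm_swap hK v u, Forms.qEnd_apply]

theorem nondeg {u : Vec} (h : ∀ v, B u v = 0) : u = 0 := by
  funext i
  have hi := h (Pi.single i 1)
  have key : ∀ a : K, a ^ 2 = 0 → a = 0 := by decide +kernel
  simp only [B, Forms.hermB_apply, Cfsg.hermForm, Pi.single_apply, ite_mul, one_mul, zero_mul,
    Finset.sum_ite_eq', Finset.mem_univ, if_true] at hi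
  exact key _ hi

theorem exists_one {u : Vec} (h : u ≠ 0) : ∃ x, B u x = 1 := by
  by_contra hx
  push Not at hx
  refine h (nondeg fun v => by_contra fun hv => hx ((B u v)⁻¹ • v) ?_)
  rw [B_smulR, inv_mul_cancel₀ hv]

/-- Vectors that are not proportional have a dual vector. -/
theorem exists_dual {a b : Vec} (hb : b ≠ 0) (h : ∀ c : K, a ≠ c • b) :
    ∃ x, B a x = 1 ∧ B b x = 0 := by
  obtain ⟨x0, hx0⟩ := exists_one hb
  by_contra hx
  push Not at hx
  refine h ((B a x0) ^ 2) ?_
  have hall : ∀ y, B a (y + B b y • x0) = 0 := fun y => by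
    by_contra hy
    refine hx ((B a (y + B b y • x0))⁻¹ • (y + B b y • x0)) (by rw [B_smulR, inv_mul_cancel₀ hy]) ?_
    simp only [B_addR, B_smulR, hx0, mul_one, FiU6.add_self, mul_zero]
  have h0 : ∀ y, B (a + (B a x0) ^ 2 • b) y = 0 := fun y => by
    have h1 := hall y
    rw [B_addR, B_smulR] at h1
    rw [B_addL, B_smulL]
    have key : ∀ p q r : K, p + q * r = 0 → p + (r ^ 2) ^ 2 * q = 0 := by decide +kernel
    exact key _ _ _ h1
  have := congrArg (· + (B a x0) ^ 2 • b) (nondeg h0)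
  simpa [add_assoc, addSelf] using this

/-! ## Lifts -/

theorem isom (A : SU6) (x y : Vec) : B (toM A *ᵥ x) (toM A *ᵥ y) = B x y :=
  (ClassicalSimple.mem_SU_iff hK A.1).1 A.2 x y

theorem act_mul (A C : SU6) (x : Vec) : toM (A * C) *ᵥ x = toM A *ᵥ (toM C *ᵥ x) := by
  rw [map_mul, Matrix.mulVec_mulVec]

theorem act_one (x : Vec) : toM (1 : SU6) *ᵥ x = x := by
  rw [map_one, Matrix.one_mulVec]

theorem act_inj (A : SU6) {x y : Vec} (h : toM A *ᵥ x = toM A *ᵥ y) : x = y := by
  have := congrArg (toM A⁻¹ *ᵥ ·) h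
  simp only [← act_mul, inv_mul_cancel, act_one] at this
  exact this

theorem ext_act {A C : SU6} (h : ∀ x, toM A *ᵥ x = toM C *ᵥ x) : A = C :=
  toM_injective (Matrix.toLin'.injective (LinearMap.ext fun x => by simpa using h x))

theorem cube_center {z : SU6} (hz : z ∈ Subgroup.center SU6) : z ^ 3 = 1 := by
  have h : Nat.card (Subgroup.center SU6) = 3 := Forms.card_center_SU hK (n := 6) (by norm_num)
  have := pow_card_eq_one' (x := (⟨z, hz⟩ : Subgroup.center SU6))
  rw [h] at this
  exact congrArg Subtype.val this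

/-- The quotient map. -/
noncomputable abbrev mk : SU6 →* PU := QuotientGroup.mk' (Subgroup.center SU6)

theorem eq_of_mk {A C : SU6} (hA : A * A = 1) (hC : C * C = 1) (h : mk A = mk C) : A = C := by
  obtain ⟨z, hz, e⟩ : ∃ z ∈ Subgroup.center SU6, A * z = C :=
    (QuotientGroup.mk'_eq_mk' _).1 h
  have hcz : A * z * (A * z) = 1 := by rw [e]; exact hC
  have hz2 : z * z = 1 := by
    rw [mul_assoc, ← mul_assoc z, ← Subgroup.mem_center_iff.1 hz A, ← mul_assoc, ← mul_assoc, hA,
      one_mul] at hcz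
    exact hcz
  have hz1 : z = 1 := by
    have h3 := cube_center hz
    rwa [pow_succ, pow_two, hz2, one_mul] at h3
  rw [← e, hz1, mul_one]

theorem exists_lift {g : PU} (hg : g * g = 1) : ∃ A : SU6, A * A = 1 ∧ mk A = g := by
  obtain ⟨A, rfl⟩ := QuotientGroup.mk'_surjective _ g
  refine ⟨A ^ 3, ?_, ?_⟩
  · rw [← map_mul] at hg
    have hz : A * A ∈ Subgroup.center SU6 := (QuotientGroup.eq_one_iff _).1 hg
    have h3 := cube_center hz
    rw [← pow_two, ← pow_mul] at h3
    rw [← pow_add]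
    exact h3
  · rw [map_pow, pow_succ, pow_two, hg, one_mul]

theorem comm_of_mk {A H : SU6} (hA : A * A = 1) (h : Commute (mk H) (mk A)) : H * A = A * H := by
  have e : H * A * H⁻¹ = A := by
    refine eq_of_mk (by simp [mul_assoc, ← mul_assoc A A, hA]) hA ?_
    rw [map_mul, map_mul, map_inv, h.eq, mul_inv_cancel_right]
  rwa [mul_inv_eq_iff_eq_mul] at e

/-! ## Transvections -/

/-- A transvection of the projective group. -/
noncomputable def tv (v : Vec) (hv : v ≠ 0) (h0 : B v v = 0) : PU := mk (mkT v hv h0)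

theorem mkT_apply {v : Vec} (hv : v ≠ 0) (h0 : B v v = 0) (x : Vec) :
    toM (mkT v hv h0) *ᵥ x = x + B v x • v :=
  tm_mulVec v x

theorem mkT_sq {v : Vec} (hv : v ≠ 0) (h0 : B v v = 0) : mkT v hv h0 * mkT v hv h0 = 1 :=
  ext_act fun x => by
    rw [act_mul, act_one, mkT_apply, mkT_apply, B_addR, B_smulR, h0, mul_zero, add_zero, add_assoc,
      addSelf, add_zero]

theorem image_ne (C : SU6) {v : Vec} (hv : v ≠ 0) : toM C *ᵥ v ≠ 0 := fun h =>
  hv (act_inj C (by rw [h, Matrix.mulVec_zero]))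

theorem image_iso (C : SU6) {v : Vec} (h0 : B v v = 0) : B (toM C *ᵥ v) (toM C *ᵥ v) = 0 := by
  rw [isom, h0]

theorem conj_mkT (C : SU6) {v : Vec} (hv : v ≠ 0) (h0 : B v v = 0) :
    C * mkT v hv h0 * C⁻¹ = mkT (toM C *ᵥ v) (image_ne C hv) (image_iso C h0) := by
  refine toM_injective ?_
  rw [map_mul, map_mul]
  exact conj_tm C v

theorem mkT_eq_of_smul {v w : Vec} (hv : v ≠ 0) (hv0 : B v v = 0) (hw : w ≠ 0) (hw0 : B w w = 0)
    {c : K} (hc : c ≠ 0) (e : v = c • w) : mkT v hv hv0 = mkT w hw hw0 := by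
  refine toM_injective ?_
  show tm v = tm w
  rw [e, tm_smul hc]

theorem smul_of_mkT {v w : Vec} {hv : v ≠ 0} {hv0 : B v v = 0} {hw : w ≠ 0} {hw0 : B w w = 0}
    (e : mkT v hv hv0 = mkT w hw hw0) : ∃ c : K, c ≠ 0 ∧ v = c • w := by
  obtain ⟨x, hx⟩ := exists_one hv
  have h := mkT_apply hv hv0 x
  rw [e, mkT_apply hw hw0, hx, one_smul] at h
  refine ⟨B w x, fun h0 => hv ?_, (add_left_cancel h).symm⟩
  rw [h0, zero_smul, add_zero] at h
  simpa using h.symm

theorem vec_of_tv {v w : Vec} {hv : v ≠ 0} {hv0 : B v v = 0} {hw : w ≠ 0} {hw0 : B w w = 0}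
    (e : tv v hv hv0 = tv w hw hw0) : ∃ c : K, c ≠ 0 ∧ v = c • w :=
  smul_of_mkT (eq_of_mk (mkT_sq hv hv0) (mkT_sq hw hw0) e)

theorem reach : ∀ k, k < 693 → ∃ C : SU6, ∃ c : K, c ≠ 0 ∧ toM C *ᵥ v8 0 = c • vec (pt k).1 := by
  intro k
  induction k using Nat.strong_induction_on with
  | _ k ih =>
    intro hk
    obtain ⟨hl, hg, h⟩ := points_ok ⟨k, hk⟩
    by_cases h0 : k = 0
    · rw [if_pos h0] at h
      refine ⟨1, _, inv_ne_zero hl, ?_⟩
      rw [act_one, h, smul_smul, inv_mul_cancel₀ hl, one_smul]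
    · rw [if_neg h0] at h
      obtain ⟨C, c, hc, e⟩ := ih _ h.1 (lt_trans h.1 hk)
      refine ⟨uS (pt k).2.2.1 * C, c * (el (pt k).2.2.2)⁻¹, mul_ne_zero hc (inv_ne_zero hl), ?_⟩
      rw [act_mul, e, uS_mulVec hg, Matrix.mulVec_smul, h.2, smul_smul, mul_assoc, inv_mul_cancel₀ hl,
        mul_one]

theorem v8_zero : v8 0 ≠ 0 ∧ B (v8 0) (v8 0) = 0 :=
  ⟨(v8_ok ⟨0, by norm_num⟩).2.1, hermB_of (v8_ok ⟨0, by norm_num⟩).1⟩

theorem pu_zero : pu 0 = tv (v8 0) v8_zero.1 v8_zero.2 := by
  rw [pu, uS, dif_pos (by norm_num : (0 : ℕ) < 8)]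
  rfl

theorem tv_mem {v : Vec} (hv : v ≠ 0) (h0 : B v v = 0) : tv v hv h0 ∈ D0 := by
  obtain ⟨hvc, hlt⟩ := vec_code v
  have hx := index_spec (code v) hlt
  simp only [idxProp, hvc] at hx
  obtain ⟨hk, hne, e⟩ := (hx h0).resolve_left hv
  obtain ⟨C, c, hc, eC⟩ := reach _ hk
  show IsConj _ _
  rw [isConj_iff]
  refine ⟨mk C, ?_⟩
  rw [pu_zero, tv, tv, ← map_inv, ← map_mul, ← map_mul, conj_mkT]
  congr 1
  refine mkT_eq_of_smul _ _ _ _ (mul_ne_zero hc (inv_ne_zero hne)) ?_
  rw [eC, mul_smul]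
  congr 1
  exact ((congrArg ((el _)⁻¹ • ·) e).trans (inv_smul_smul₀ hne _)).symm

theorem exists_of_mem {u : PU} (hu : u ∈ D0) : ∃ v hv h0, u = tv v hv h0 := by
  obtain ⟨g, rfl⟩ := isConj_iff.1 (show IsConj (pu 0) u from hu)
  obtain ⟨C, rfl⟩ := QuotientGroup.mk'_surjective (Subgroup.center SU6) g
  refine ⟨_, image_ne C v8_zero.1, image_iso C v8_zero.2, ?_⟩
  rw [pu_zero, tv, tv, ← map_inv, ← map_mul, ← map_mul, conj_mkT]

/-! ## The nilpotent part of an involution -/

/-- The nilpotent part. -/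
def nil (A : SU6) (x : Vec) : Vec := toM A *ᵥ x + x

variable {A : SU6}

theorem nil_add (x y : Vec) : nil A (x + y) = nil A x + nil A y := by
  rw [nil, nil, nil, Matrix.mulVec_add]; abel

theorem nil_smul (c : K) (x : Vec) : nil A (c • x) = c • nil A x := by
  rw [nil, nil, Matrix.mulVec_smul, smul_add]

theorem act_eq (x : Vec) : toM A *ᵥ x = x + nil A x := by
  rw [nil, add_comm (toM A *ᵥ x) x, ← add_assoc, addSelf, zero_add]

theorem nil_nil (hA : A * A = 1) (x : Vec) : nil A (nil A x) = 0 := by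
  have h : toM A *ᵥ (toM A *ᵥ x) = x := by rw [← act_mul, hA, act_one]
  rw [nil, nil, Matrix.mulVec_add, h, add_comm x (toM A *ᵥ x), addSelf]

theorem nil_adjoint (hA : A * A = 1) (x y : Vec) : B (nil A x) y = B x (nil A y) := by
  have h : ∀ u w, B (nil A u) w + B u (nil A w) + B (nil A u) (nil A w) = 0 := fun u w => by
    have := isom A u w
    rw [act_eq, act_eq, B_addL, B_addR, B_addR] at this
    have key : ∀ p q r s : K, p + q + (r + s) = p → r + q + s = 0 := by decide +kernel
    exact key _ _ _ _ this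
  have h2 : B (nil A x) (nil A y) = 0 := by
    have := h (nil A x) y
    simpa [nil_nil hA, B_zeroL] using this
  have := h x y
  rw [h2, add_zero] at this
  have key : ∀ p q : K, p + q = 0 → p = q := by decide +kernel
  exact key _ _ this

theorem nil_iso (hA : A * A = 1) (x : Vec) : B (nil A x) (nil A x) = 0 := by
  rw [nil_adjoint hA, nil_nil hA, B_zeroR]

theorem commute_tv {v : Vec} (hv : v ≠ 0) (h0 : B v v = 0) (hfix : nil A v = 0) :
    Commute (mk A) (tv v hv h0) := by
  have e : A * mkT v hv h0 * A⁻¹ = mkT v hv h0 := by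
    rw [conj_mkT]
    refine mkT_eq_of_smul _ _ _ _ (one_ne_zero (α := K)) ?_
    rw [act_eq, hfix, add_zero, one_smul]
  rw [mul_inv_eq_iff_eq_mul] at e
  exact (Commute.map (show Commute A (mkT v hv h0) from e) mk)

/-- Every involution commutes with a transvection. -/
theorem exists_commuting (g : PU) (hg : g * g = 1) : ∃ u ∈ D0, Commute g u := by
  obtain ⟨A, hA, rfl⟩ := exists_lift hg
  by_cases h : ∀ x, nil A x = 0
  · exact ⟨_, tv_mem v8_zero.1 v8_zero.2, commute_tv _ _ (h _)⟩
  push Not at h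
  obtain ⟨x, hx⟩ := h
  exact ⟨_, tv_mem hx (nil_iso hA x), commute_tv _ _ (nil_nil hA x)⟩

/-- A non-transvection involution commutes with two transvections not conjugate under its centralizer. -/
theorem split (g : PU) (hg : g * g = 1) (h1 : g ≠ 1) (hn : g ∉ D0) :
    ∃ u ∈ D0, ∃ v ∈ D0, Commute g u ∧ Commute g v ∧ ∀ h, Commute h g → h * u * h⁻¹ ≠ v := by
  obtain ⟨A, hA, rfl⟩ := exists_lift hg
  -- `q x = B x (N x)` takes both values
  have hsym : ∀ x y, B y (nil A x) = B x (nil A y) ^ 2 := fun x y => by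
    rw [← nil_adjoint hA y x, B_swap]
  have k2 : ∀ a : K, a = a ^ 2 → a = 0 ∨ a = 1 := by decide +kernel
  obtain ⟨y, hy⟩ : ∃ y, B y (nil A y) = 1 := by
    by_contra hall
    push Not at hall
    have hz : ∀ y, B y (nil A y) = 0 := fun y => (k2 _ (hsym y y)).resolve_right (hall y)
    refine h1 ?_
    have hN : ∀ z, nil A z = 0 := fun z => nondeg fun x => by
      have key : ∀ p : K, (∀ c : K, c * p + c ^ 2 * p ^ 2 = 0) → p = 0 := by decide +kernel
      rw [nil_adjoint hA]
      refine key _ fun c => ?_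
      have := hz (z + c • x)
      rw [nil_add, nil_smul, B_addL, B_addR, B_addR, B_smulR, B_smulL, B_smulL, B_smulR, hz z, hz x,
        hsym z x, mul_zero, mul_zero, zero_add, add_zero] at this
      rwa [mul_comm (c ^ 2)] at this ⊢
    rw [show A = 1 from ext_act fun z => by rw [act_eq, hN, add_zero, act_one], map_one]
  have hw : nil A y ≠ 0 := fun h => by rw [h, B_zeroR] at hy; exact zero_ne_one hy
  obtain ⟨x, hq, hx⟩ : ∃ x, B x (nil A x) = 0 ∧ nil A x ≠ 0 := by
    obtain ⟨z, hzy, hz⟩ : ∃ z, B y (nil A z) = 0 ∧ nil A z ≠ 0 := by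
      by_contra hall
      push Not at hall
      refine hn ?_
      have hAt : A = mkT (nil A y) hw (nil_iso hA y) := ext_act fun z => by
        have := hall (z + B y (nil A z) • y) (by rw [nil_add, nil_smul, B_addR, B_smulR, hy, mul_one, FiU6.add_self])
        rw [nil_add, nil_smul] at this
        rw [mkT_apply, act_eq, nil_adjoint hA]
        have h' := congrArg (· + B y (nil A z) • nil A y) this
        simp only [zero_add, add_assoc, addSelf, add_zero] at h'
        exact congrArg (z + ·) h'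
      rw [hAt]
      exact tv_mem _ _
    rcases k2 _ (hsym z z) with h | h
    · exact ⟨z, h, hz⟩
    · refine ⟨y + z, ?_, fun h0 => ?_⟩
      · rw [nil_add, B_addL, B_addR, B_addR, hy, hzy, h, hsym y z, hzy]
        decide +kernel
      · rw [nil_add] at h0
        have := congrArg (B y ·) h0
        rw [B_addR, hy, hzy, B_zeroR, add_zero] at this
        exact one_ne_zero this
  refine ⟨_, tv_mem hx (nil_iso hA x), _, tv_mem hw (nil_iso hA y), commute_tv _ _ (nil_nil hA x),
    commute_tv _ _ (nil_nil hA y), fun h hh e => ?_⟩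
  obtain ⟨H, rfl⟩ := QuotientGroup.mk'_surjective (Subgroup.center SU6) h
  have hcomm := comm_of_mk hA hh
  have hN : ∀ z, toM H *ᵥ nil A z = nil A (toM H *ᵥ z) := fun z => by
    rw [nil, nil, Matrix.mulVec_add, ← act_mul, ← act_mul, hcomm]
  rw [tv, ← map_inv, ← map_mul, ← map_mul, conj_mkT] at e
  obtain ⟨c, hc, ec⟩ := vec_of_tv e
  rw [hN, ← nil_smul] at ec
  set k := toM H *ᵥ x + c • y with hk
  have hk0 : nil A k = 0 := by rw [hk, nil_add, ec, addSelf]
  have hHx : toM H *ᵥ x = k + c • y := by rw [hk, add_assoc, addSelf, add_zero]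
  have h5 : B (toM H *ᵥ x) (nil A (toM H *ᵥ x)) = 0 := by rw [← hN, isom, hq]
  rw [ec, hHx, B_addL, B_smulL, nil_smul, B_smulR, B_smulR, ← nil_adjoint hA, hk0, B_zeroL, hy,
    mul_zero, zero_add, mul_one] at h5
  have key : ∀ c : K, c ^ 2 * c = 0 → c = 0 := by decide +kernel
  exact hc (key c h5)

/-! ## Pairs of commuting transvections -/

theorem orth_of_commute {a b : Vec} {ha : a ≠ 0} {ha0 : B a a = 0} {hb : b ≠ 0} {hb0 : B b b = 0}
    (hne : tv a ha ha0 ≠ tv b hb hb0) (hc : Commute (tv a ha ha0) (tv b hb hb0)) :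
    B a b = 0 ∧ ∀ c : K, a ≠ c • b := by
  have hind : ∀ c : K, a ≠ c • b := fun c e => by
    refine hne (congrArg mk (mkT_eq_of_smul ha ha0 hb hb0 (fun h => ha ?_) e))
    rw [e, h, zero_smul]
  refine ⟨?_, hind⟩
  have h1 := comm_of_mk (mkT_sq hb hb0) hc
  have e : mkT a ha ha0 * mkT b hb hb0 * (mkT a ha ha0)⁻¹ = mkT b hb hb0 := by
    rw [h1, mul_inv_cancel_right]
  rw [conj_mkT] at e
  obtain ⟨c, hc0, ec⟩ := smul_of_mkT e
  rw [mkT_apply] at ec
  by_contra hab
  refine hind ((B a b)⁻¹ * (c + 1)) ?_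
  have h2 : B a b • a = (c + 1) • b := by
    rw [add_smul, one_smul, ← ec, add_comm b, add_assoc, addSelf, add_zero]
  rw [mul_smul, ← h2, smul_smul, inv_mul_cancel₀ hab, one_smul]

theorem two_apply {a b : Vec} (ha : a ≠ 0) (ha0 : B a a = 0) (hb : b ≠ 0) (hb0 : B b b = 0)
    (hab : B a b = 0) (x : Vec) :
    toM (mkT a ha ha0 * mkT b hb hb0) *ᵥ x = x + (B a x • a + B b x • b) := by
  rw [act_mul, mkT_apply, mkT_apply, B_addR, B_smulR, hab, mul_zero, add_zero, add_comm (B a x • a),
    ← add_assoc]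

theorem two_sq {a b : Vec} (ha : a ≠ 0) (ha0 : B a a = 0) (hb : b ≠ 0) (hb0 : B b b = 0)
    (hab : B a b = 0) : mkT a ha ha0 * mkT b hb hb0 * (mkT a ha ha0 * mkT b hb hb0) = 1 := by
  have hba : B b a = 0 := by rw [B_swap, hab]; exact zero_pow two_ne_zero
  refine ext_act fun x => ?_
  rw [act_mul _ (_ * _), two_apply ha ha0 hb hb0 hab, two_apply ha ha0 hb hb0 hab, act_one]
  simp only [B_addR, B_smulR, ha0, hb0, hab, hba, mul_zero, add_zero]
  rw [add_assoc, addSelf, add_zero]

/-- A third transvection `w` with `u v w` a transvection is `u` or `v`. -/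
theorem pair {u v w : PU} (hu : u ∈ D0) (hv : v ∈ D0) (hw : w ∈ D0) (hne : u ≠ v) (huv : Commute u v)
    (hwc : Commute w (u * v)) (hp : u * v * w ∈ D0) : w = u ∨ w = v := by
  obtain ⟨a, ha, ha0, rfl⟩ := exists_of_mem hu
  obtain ⟨b, hb, hb0, rfl⟩ := exists_of_mem hv
  obtain ⟨c, hc, hc0, rfl⟩ := exists_of_mem hw
  obtain ⟨d, hd, hd0, ed⟩ := exists_of_mem hp
  obtain ⟨hab, hind⟩ := orth_of_commute hne huv
  obtain ⟨xa, hxa, hxb'⟩ := exists_dual hb hind
  have hind' : ∀ k : K, b ≠ k • a := fun k e => by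
    by_cases hk : k = 0
    · exact hb (by rw [e, hk, zero_smul])
    · exact hind k⁻¹ (by rw [e, smul_smul, inv_mul_cancel₀ hk, one_smul])
  obtain ⟨xb, hxb, hxa'⟩ := exists_dual ha hind'
  have hindep : ∀ p q : K, p • a + q • b = 0 → p = 0 ∧ q = 0 := fun p q e => by
    have key : ∀ r : K, r ^ 2 = 0 → r = 0 := by decide +kernel
    have h1 := congrArg (B · xa) e
    have h2 := congrArg (B · xb) e
    simp only [B_addL, B_smulL, B_zeroL, hxa, hxb', hxb, hxa', mul_one, mul_zero, add_zero, zero_add]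
      at h1 h2
    exact ⟨key _ h1, key _ h2⟩
  set A := mkT a ha ha0 * mkT b hb hb0 with hAdef
  have hA : A * A = 1 := two_sq ha ha0 hb hb0 hab
  have hcA : mkT c hc hc0 * A = A * mkT c hc hc0 :=
    comm_of_mk hA (by rw [hAdef, map_mul]; exact hwc)
  have hfix : nil A c = 0 := by
    have e : A * mkT c hc hc0 * A⁻¹ = mkT c hc hc0 := by rw [← hcA, mul_inv_cancel_right]
    rw [conj_mkT] at e
    obtain ⟨k, hk, ek⟩ := smul_of_mkT e
    have key : ∀ k : K, k * k = 1 → k = 1 := by decide +kernel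
    have h2 : c = (k * k) • c := by
      conv_lhs => rw [← act_one c, ← hA, act_mul, ek, Matrix.mulVec_smul, ek, smul_smul]
    have hkk : k * k = 1 := by
      by_contra hne'
      have h3 : (k * k + 1) • c = 0 := by rw [add_smul, one_smul, ← h2, addSelf]
      have key2 : ∀ k : K, k + 1 = 0 → k = 1 := by decide +kernel
      exact hne' (key2 _ ((smul_eq_zero.1 h3).resolve_right hc))
    rw [nil, ek, key k hkk, one_smul, addSelf]
  have hbc : B a c = 0 ∧ B b c = 0 := by
    rw [nil, two_apply ha ha0 hb hb0 hab, add_comm _ c, ← add_assoc, addSelf, zero_add] at hfix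
    exact hindep _ _ hfix
  have e2 : A * mkT c hc hc0 = mkT d hd hd0 := by
    refine eq_of_mk ?_ (mkT_sq hd hd0) ?_
    · rw [mul_assoc, ← mul_assoc (mkT c hc hc0), hcA, mul_assoc A, mkT_sq, mul_one, hA]
    · rw [map_mul, hAdef, map_mul]; exact ed
  have hN : ∀ x, B a x • a + B b x • b + B c x • c = B d x • d := fun x => by
    have h := congrArg (fun M => toM M *ᵥ x) e2
    simp only [act_mul A] at h
    have hAx : ∀ y, toM A *ᵥ y = y + (B a y • a + B b y • b) := two_apply ha ha0 hb hb0 hab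
    simp only [mkT_apply, hAx, B_addR, B_smulR, hbc.1, hbc.2, mul_zero, add_zero] at h
    rw [add_assoc, add_left_cancel_iff, add_comm] at h
    exact h
  -- `c` lies in the plane
  obtain ⟨α, β, hc'⟩ : ∃ α β : K, c = α • a + β • b := by
    by_contra hout
    push Not at hout
    have hab' : ∀ x, B a x = 0 → B b x = 0 → B c x = 0 ∨ c = (B c x)⁻¹ • (B d x • d) := fun x h1 h2 => by
      by_cases h3 : B c x = 0
      · exact Or.inl h3
      · right
        rw [← hN x, h1, h2, zero_smul, zero_smul, zero_add, zero_add, smul_smul, inv_mul_cancel₀ h3,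
          one_smul]
    -- the functionals are independent, so some `x` isolates `c`
    obtain ⟨x, h1, h2, h3⟩ : ∃ x, B a x = 0 ∧ B b x = 0 ∧ B c x ≠ 0 := by
      by_contra hall
      push Not at hall
      refine hout ((B c xa) ^ 2) ((B c xb) ^ 2) ?_
      have h0 : ∀ y, B (c + ((B c xa) ^ 2 • a + (B c xb) ^ 2 • b)) y = 0 := fun y => by
        have h := hall (y + (B a y • xa + B b y • xb))
          (by simp only [B_addR, B_smulR, hxa, hxa', mul_one, mul_zero, add_zero]; exact FiU6.add_self _)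
          (by simp only [B_addR, B_smulR, hxb, hxb', mul_one, mul_zero, zero_add]; exact FiU6.add_self _)
        simp only [B_addR, B_smulR] at h
        simp only [B_addL, B_smulL]
        have key : ∀ r s : K, (r ^ 2) ^ 2 * s = s * r := by decide +kernel
        rw [key, key]
        exact h
      have := congrArg (· + ((B c xa) ^ 2 • a + (B c xb) ^ 2 • b)) (nondeg h0)
      simpa [add_assoc, addSelf] using this
    have hcd := (hab' x h1 h2).resolve_left h3
    obtain ⟨l, hl⟩ : ∃ l : K, c = l • d := ⟨_, hcd.trans (smul_smul _ _ _)⟩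
    have hl0 : l ≠ 0 := fun h => hc (by rw [hl, h, zero_smul])
    -- so `d` is proportional to `c` and the sum of the first two vanishes
    have hsum : ∀ y, B a y • a + B b y • b = 0 := fun y => by
      have h := hN y
      have hB : B c y • c = B d y • d := by
        rw [hl, B_smulL, smul_smul]
        congr 1
        have key : ∀ l m : K, l ≠ 0 → l ^ 2 * m * l = m := by decide +kernel
        exact key _ _ hl0
      rw [hB] at h
      simpa using h
    have h1' := (hindep _ _ (hsum xa)).1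
    rw [hxa] at h1'
    exact one_ne_zero h1'
  have hca : B c xa = α ^ 2 := by rw [hc', B_addL, B_smulL, B_smulL, hxa, hxb', mul_one, mul_zero, add_zero]
  have hcb : B c xb = β ^ 2 := by rw [hc', B_addL, B_smulL, B_smulL, hxa', hxb, mul_one, mul_zero, zero_add]
  -- `d` lies in the plane as well
  obtain ⟨s, t, hd'⟩ : ∃ s t : K, d = s • a + t • b := by
    obtain ⟨x, hx⟩ := exists_one hd
    refine ⟨B a x + B c x * α, B b x + B c x * β, ?_⟩
    have h := hN x
    rw [hx, one_smul, hc', smul_add, smul_smul, smul_smul, ← hc'] at h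
    rw [← h, add_smul, add_smul]
    abel
  have hda : B d xa = s ^ 2 := by rw [hd', B_addL, B_smulL, B_smulL, hxa, hxb', mul_one, mul_zero, add_zero]
  have hdb : B d xb = t ^ 2 := by rw [hd', B_addL, B_smulL, B_smulL, hxa', hxb, mul_one, mul_zero, zero_add]
  have heq : ∀ p q p' q' : K, p • a + q • b = p' • a + q' • b → p = p' ∧ q = q' := fun p q p' q' e => by
    have key : ∀ u v : K, u + v = 0 → u = v := by decide +kernel
    obtain ⟨h1, h2⟩ := hindep (p + p') (q + q') (by rw [add_smul, add_smul, add_add_add_comm, e, addSelf])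
    exact ⟨key _ _ h1, key _ _ h2⟩
  have eA := hN xa
  rw [hxa, hxb', hca, hda, hc', hd', zero_smul, add_zero, smul_add, smul_add, smul_smul, smul_smul,
    smul_smul, smul_smul, ← add_assoc, ← add_smul] at eA
  obtain ⟨A1, A2⟩ := heq _ _ _ _ eA
  have eB := hN xb
  rw [hxa', hxb, hcb, hdb, hc', hd', zero_smul, zero_add, smul_add, smul_add, smul_smul, smul_smul,
    smul_smul, smul_smul, ← add_assoc, add_comm ((1 : K) • b), add_assoc, ← add_smul] at eB
  obtain ⟨B1, B2⟩ := heq _ _ _ _ eB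
  have key : ∀ α β : K, (∃ s t : K, 1 + α ^ 2 * α = s ^ 2 * s ∧ α ^ 2 * β = s ^ 2 * t ∧
      β ^ 2 * α = t ^ 2 * s ∧ 1 + β ^ 2 * β = t ^ 2 * t) → α = 0 ∨ β = 0 := by decide +kernel
  rcases key α β ⟨s, t, A1, A2, B1, B2⟩ with h | h
  · right
    refine congrArg mk (mkT_eq_of_smul hc hc0 hb hb0 (fun h' => hc ?_) (c := β) ?_)
    · rw [hc', h, h', zero_smul, zero_smul, add_zero]
    · rw [hc', h, zero_smul, zero_add]
  · left
    refine congrArg mk (mkT_eq_of_smul hc hc0 ha ha0 (fun h' => hc ?_) (c := α) ?_)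
    · rw [hc', h, h', zero_smul, zero_smul, add_zero]
    · rw [hc', h, zero_smul, add_zero]

theorem line_key : ∀ p q r s t : K,
    r + (s * p + el 2 ^ 2 * t * p + (s + el 2 ^ 2 * t) * el 2 * q) + (s * p + t * p + (s * q + t * q)) +
        (s * p + t * q) =
      r + (s * p + (el 2 ^ 2) ^ 2 * t * p + (s + (el 2 ^ 2) ^ 2 * t) * el 2 ^ 2 * q) := by
  decide +kernel

/-- The five transvections of a totally isotropic line have product one. -/
theorem line {u v : PU} (hu : u ∈ D0) (hv : v ∈ D0) (hne : u ≠ v) (huv : Commute u v) :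
    ∃ e ∈ D0, ∃ f ∈ D0, Commute e u ∧ Commute e v ∧ Commute f u ∧ Commute f v ∧ Commute e f ∧
      u * v * e * f ∈ D0 := by
  obtain ⟨a, ha, ha0, rfl⟩ := exists_of_mem hu
  obtain ⟨b, hb, hb0, rfl⟩ := exists_of_mem hv
  obtain ⟨hab, hind⟩ := orth_of_commute hne huv
  have hba : B b a = 0 := by rw [B_swap, hab]; exact zero_pow two_ne_zero
  set w : K := el 2 with hw
  have hp : ∀ k : K, a + k • b ≠ 0 := fun k e => hind k (by
    have := congrArg (· + k • b) e
    simpa [add_assoc, addSelf] using this)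
  have hp0 : ∀ k : K, B (a + k • b) (a + k • b) = 0 := fun k => by
    simp [B_addL, B_addR, B_smulL, B_smulR, ha0, hb0, hab, hba]
  have hcom : ∀ (p q : Vec) (hp : p ≠ 0) (hp0 : B p p = 0) (hq : q ≠ 0) (hq0 : B q q = 0),
      B p q = 0 → Commute (tv p hp hp0) (tv q hq hq0) := fun p q hp hp0 hq hq0 hpq => by
    refine commute_tv hq hq0 ?_
    rw [nil, mkT_apply, hpq, zero_smul, add_zero, addSelf]
  have horth : ∀ k : K, B (a + k • b) a = 0 ∧ B (a + k • b) b = 0 ∧ ∀ l : K, B (a + k • b) (a + l • b) = 0 :=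
    fun k => by simp [B_addL, B_addR, B_smulL, B_smulR, ha0, hb0, hab, hba]
  refine ⟨_, tv_mem (hp 1) (hp0 1), _, tv_mem (hp w) (hp0 w), hcom _ _ _ _ _ _ (horth 1).1,
    hcom _ _ _ _ _ _ (horth 1).2.1, hcom _ _ _ _ _ _ (horth w).1, hcom _ _ _ _ _ _ (horth w).2.1,
    hcom _ _ _ _ _ _ ((horth 1).2.2 w), ?_⟩
  have e : mkT a ha ha0 * mkT b hb hb0 * mkT _ (hp 1) (hp0 1) * mkT _ (hp w) (hp0 w) =
      mkT _ (hp (w ^ 2)) (hp0 (w ^ 2)) := ext_act fun x => by
    simp only [act_mul (_ * _), two_apply ha ha0 hb hb0 hab, mkT_apply]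
    simp only [B_addR, B_addL, B_smulR, B_smulL, ha0, hb0, hab, hba, mul_zero, add_zero, one_smul,
      one_pow, one_mul, smul_add, add_smul, smul_smul]
    funext i
    simp only [Pi.add_apply, Pi.smul_apply, smul_eq_mul]
    generalize a i = p; generalize b i = q; generalize x i = r
    generalize B a x = s; generalize B b x = t
    exact line_key p q r s t
  have := tv_mem (hp (w ^ 2)) (hp0 (w ^ 2))
  rw [tv, ← e, map_mul, map_mul, map_mul] at this
  exact this

/-- There is an involution which is not a transvection. -/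
theorem exists_other : ∃ g : PU, g * g = 1 ∧ g ≠ 1 ∧ g ∉ D0 := by
  set a : Vec := vec 5 with haD
  set b : Vec := vec 80 with hbD
  have facts : a ≠ 0 ∧ b ≠ 0 ∧ Cfsg.hermForm 6 K 2 a a = 0 ∧ Cfsg.hermForm 6 K 2 b b = 0 ∧
      Cfsg.hermForm 6 K 2 b a = 0 := by rw [haD, hbD]; decide +kernel
  obtain ⟨ha, hb, ha', hb', hab'⟩ := facts
  have ha0 : B a a = 0 := hermB_of ha'
  have hb0 : B b b = 0 := hermB_of hb'
  have hab : B a b = 0 := hab'
  have hind : ∀ c : K, a ≠ c • b := by rw [haD, hbD]; decide +kernel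
  obtain ⟨xa, hxa, hxb'⟩ := exists_dual hb hind
  have hA := two_sq ha ha0 hb hb0 hab
  refine ⟨mk (mkT a ha ha0 * mkT b hb hb0), by rw [← map_mul, hA, map_one], fun h => ?_, fun h => ?_⟩
  · rw [← map_one mk] at h
    have e := congrArg (fun M => toM M *ᵥ xa) (eq_of_mk hA (one_mul 1) h)
    simp only [act_one, two_apply ha ha0 hb hb0 hab, hxa, hxb', one_smul, zero_smul, add_zero] at e
    exact ha (by simpa using e)
  · obtain ⟨d, hd, hd0, e⟩ := exists_of_mem h
    have e' := eq_of_mk hA (mkT_sq hd hd0) e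
    have hN : ∀ x, B a x • a + B b x • b = B d x • d := fun x => by
      have h' := congrArg (fun M => toM M *ᵥ x) e'
      simpa only [two_apply ha ha0 hb hb0 hab, mkT_apply, add_left_cancel_iff] using h'
    have h1 := hN xa
    rw [hxa, hxb', one_smul, zero_smul, add_zero] at h1
    obtain ⟨y, hy⟩ := exists_one hb
    have h2 := hN y
    have hl : B d xa ≠ 0 := fun h0 => ha (by rw [h1, h0, zero_smul])
    rw [hy, one_smul] at h2
    refine hind (B a y + B d y * (B d xa)⁻¹)⁻¹ ?_
    have h3 : b = (B a y + B d y * (B d xa)⁻¹) • a := by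
      rw [add_smul, mul_smul]
      conv_rhs => arg 2; arg 2; rw [h1, smul_smul, inv_mul_cancel₀ hl, one_smul]
      rw [← h2, ← add_assoc, addSelf, zero_add]
    have hne : B a y + B d y * (B d xa)⁻¹ ≠ 0 := fun h0 => hb (by rw [h3, h0, zero_smul])
    conv_rhs => rw [h3, smul_smul, inv_mul_cancel₀ hne, one_smul]

end Cfsg.Agent.U6Recog.Split
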