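import Cfsg.Agent.Lib.Coprime.Generation
import Cfsg.Agent.Lib.PCore.Basic
import Cfsg.Agent.Lib.ZStar.Main
import Mathlib.GroupTheory.Subgroup.Centralizer
import Mathlib.GroupTheory.OrderOfElement
import Mathlib.Tactic.Group

/-!
# A subgroup containing the centralisers of linked involutions is the whole group

`eq_top_of_pairs`: the same conclusion from hypotheses on commuting pairs of conjugates in `M`
(isolation, the fifth member of a line, two classes of conjugates at every other involution).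

`eq_top`: let `z` be an involution of a finite group `G`, `M` a subgroup containing `C(z)` and
controlling the fusion of `z` in `M`, such that for every other involution `i` of `M` some
conjugate `a ∈ M` of `z` is joined to all its `C(i)`-conjugates by chains of commuting conjugates
of `z`. If `M` has an involution not conjugate to `z` in `M`, then `M = G`.
-/

set_option autoImplicit false

namespace Cfsg.Agent.U6Recog

open Subgroup
open scoped commutatorElement

universe u

variable {G : Type u} [Group G]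

/-- Two involutions with product of odd order are conjugate. -/
theorem exists_conj_eq_of_odd {u i : G} (hu : u * u = 1) (hi : i * i = 1)
    (h : Odd (orderOf (u * i))) : ∃ g ∈ zpowers (u * i), g * u * g⁻¹ = i := by
  have hu' : u⁻¹ = u := inv_eq_of_mul_eq_one_right hu
  have hi' : i⁻¹ = i := inv_eq_of_mul_eq_one_right hi
  have h1 : u * (u * i) * u⁻¹ = (u * i)⁻¹ := by
    rw [mul_inv_rev, hu', hi', ← mul_assoc u u i, hu, one_mul]
  obtain ⟨k, hk⟩ := h
  refine ⟨(u * i) ^ k, pow_mem (mem_zpowers _) k, ?_⟩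
  have h2 : u * ((u * i) ^ k)⁻¹ * u⁻¹ = (u * i) ^ k := by
    rw [← conj_inv, ← conj_pow, h1, inv_pow, inv_inv]
  have h3 : ((u * i) ^ k)⁻¹ * ((u * i) ^ k)⁻¹ = u * i := by
    rw [← mul_inv_rev, ← pow_add, inv_eq_iff_mul_eq_one, ← pow_succ,
      show k + k + 1 = orderOf (u * i) by omega, pow_orderOf_eq_one]
  calc (u * i) ^ k * u * ((u * i) ^ k)⁻¹
      = u * ((u * i) ^ k)⁻¹ * u⁻¹ * u * ((u * i) ^ k)⁻¹ := by rw [h2]
    _ = u * (((u * i) ^ k)⁻¹ * ((u * i) ^ k)⁻¹) := by group
    _ = i := by rw [h3, ← mul_assoc, hu, one_mul]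

/-- Two involutions with product of even order commute with an involution. -/
theorem exists_central_of_even [Finite G] {u i : G} (hu : u * u = 1) (hi : i * i = 1)
    (h : Even (orderOf (u * i))) : ∃ k : G, k * k = 1 ∧ k ≠ 1 ∧ Commute k u ∧ Commute k i := by
  obtain ⟨l, hl⟩ := h
  have hpos := orderOf_pos (u * i)
  have hk2 : (u * i) ^ l * (u * i) ^ l = 1 := by rw [← pow_add, ← hl, pow_orderOf_eq_one]
  have hu' : u⁻¹ = u := inv_eq_of_mul_eq_one_right hu
  have hi' : i⁻¹ = i := inv_eq_of_mul_eq_one_right hi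
  have hku : Commute ((u * i) ^ l) u := by
    have h1 : u * (u * i) * u⁻¹ = (u * i)⁻¹ := by
      rw [mul_inv_rev, hu', hi', ← mul_assoc u u i, hu, one_mul]
    have h2 : u * (u * i) ^ l * u⁻¹ = (u * i) ^ l := by
      rw [← conj_pow, h1, inv_pow, inv_eq_of_mul_eq_one_right hk2]
    exact (mul_inv_eq_iff_eq_mul.1 h2).symm
  refine ⟨(u * i) ^ l, hk2, pow_ne_one_of_lt_orderOf (by omega) (by omega), hku, ?_⟩
  have h4 := hku.mul_right ((Commute.refl (u * i)).pow_left l)
  rwa [← mul_assoc, hu, one_mul] at h4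

/-- The involution central in the dihedral group times a generator is conjugate to a generator. -/
theorem exists_central_conj_of_even [Finite G] {z u i : G} (hu : u * u = 1) (hi : i * i = 1)
    (huz : ∃ g, g * z * g⁻¹ = u) (hiz : ∃ g, g * z * g⁻¹ = i) (h : Even (orderOf (u * i))) :
    ∃ k : G, k * k = 1 ∧ k ≠ 1 ∧ Commute k u ∧ Commute k i ∧ ∃ g, g * z * g⁻¹ = u * k := by
  obtain ⟨l, hl⟩ := h
  have hpos := orderOf_pos (u * i)
  have hk2 : (u * i) ^ l * (u * i) ^ l = 1 := by rw [← pow_add, ← hl, pow_orderOf_eq_one]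
  have hu' : u⁻¹ = u := inv_eq_of_mul_eq_one_right hu
  have hi' : i⁻¹ = i := inv_eq_of_mul_eq_one_right hi
  have h1 : u * (u * i) * u⁻¹ = (u * i)⁻¹ := by
    rw [mul_inv_rev, hu', hi', ← mul_assoc u u i, hu, one_mul]
  have h1' : ∀ j : ℕ, (u * i) ^ j * u = u * ((u * i) ^ j)⁻¹ := fun j => by
    rw [← inv_pow, ← h1, conj_pow, hu', ← mul_assoc, ← mul_assoc, hu, one_mul]
  have hku : Commute ((u * i) ^ l) u := by
    show _ * u = u * _
    rw [h1' l, inv_eq_of_mul_eq_one_right hk2]
  refine ⟨(u * i) ^ l, hk2, pow_ne_one_of_lt_orderOf (by omega) (by omega), hku, ?_, ?_⟩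
  · have h4 := hku.mul_right ((Commute.refl (u * i)).pow_left l)
    rwa [← mul_assoc, hu, one_mul] at h4
  · -- `u * r ^ (2 j)` is conjugate to `u`, `u * r ^ (2 j + 1)` to `i`
    obtain ⟨j, rfl | rfl⟩ := l.even_or_odd'
    · obtain ⟨g, hg⟩ := huz
      refine ⟨((u * i) ^ j)⁻¹ * g, ?_⟩
      calc ((u * i) ^ j)⁻¹ * g * z * (((u * i) ^ j)⁻¹ * g)⁻¹
          = ((u * i) ^ j)⁻¹ * (g * z * g⁻¹) * (u * i) ^ j := by group
        _ = ((u * i) ^ j)⁻¹ * (u * ((u * i) ^ j)⁻¹⁻¹) := by rw [hg, inv_inv, mul_assoc]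
        _ = u * (u * i) ^ (2 * j) := by
          have h5 := h1' j
          rw [inv_inv, ← mul_assoc]
          rw [show ((u * i) ^ j)⁻¹ * u = u * (u * i) ^ j by
            rw [inv_mul_eq_iff_eq_mul, ← mul_assoc, h5, inv_mul_cancel_right]]
          rw [mul_assoc, ← pow_add, two_mul]
    · obtain ⟨g, hg⟩ := hiz
      refine ⟨((u * i) ^ j)⁻¹ * g, ?_⟩
      calc ((u * i) ^ j)⁻¹ * g * z * (((u * i) ^ j)⁻¹ * g)⁻¹
          = ((u * i) ^ j)⁻¹ * (g * z * g⁻¹) * (u * i) ^ j := by group
        _ = ((u * i) ^ j)⁻¹ * u * ((u * i) * (u * i) ^ j) := by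
          rw [hg]
          simp only [mul_assoc]
          rw [← mul_assoc u u, hu, one_mul]
        _ = u * (u * i) ^ (2 * j + 1) := by
          rw [show ((u * i) ^ j)⁻¹ * u = u * (u * i) ^ j by
            rw [inv_mul_eq_iff_eq_mul, ← mul_assoc, h1' j, inv_mul_cancel_right]]
          rw [← pow_succ', mul_assoc, ← pow_add, show j + (j + 1) = 2 * j + 1 by omega]

variable {z : G} (M : Subgroup G)

/-- A conjugate in `M` of `z` has its centraliser in `M`. -/
theorem mem_of_commute_member (hC : centralizer {z} ≤ M)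
    (hfus : ∀ g, g * z * g⁻¹ ∈ M → ∃ m ∈ M, m * z * m⁻¹ = g * z * g⁻¹) {g x : G}
    (hg : g * z * g⁻¹ ∈ M) (hx : Commute x (g * z * g⁻¹)) : x ∈ M := by
  obtain ⟨m, hm, e⟩ := hfus g hg
  rw [← e] at hx
  have h1 : Commute (m⁻¹ * x * m) z := by
    show (m⁻¹ * x * m) * z = z * (m⁻¹ * x * m)
    calc (m⁻¹ * x * m) * z = m⁻¹ * (x * (m * z * m⁻¹)) * m := by group
      _ = m⁻¹ * ((m * z * m⁻¹) * x) * m := by rw [hx.eq]
      _ = z * (m⁻¹ * x * m) := by group
  have h2 : m⁻¹ * x * m ∈ M := hC (mem_centralizer_singleton_iff.2 h1)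
  have := M.mul_mem (M.mul_mem hm h2) (M.inv_mem hm)
  simpa [mul_assoc] using this

/-- Commuting with conjugates of `z`. -/
def Linked (z x y : G) : Prop := (∃ g, g * z * g⁻¹ = y) ∧ Commute x y

/-- A conjugate of `z` under `M`. -/
def Member (z x : G) : Prop := ∃ m ∈ M, m * z * m⁻¹ = x

variable {M}

theorem Member.conj {x : G} (h : Member M z x) : ∃ g, g * z * g⁻¹ = x := let ⟨m, _, e⟩ := h; ⟨m, e⟩

theorem Member.mem (hC : centralizer {z} ≤ M) {x : G} (h : Member M z x) : x ∈ M := by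
  obtain ⟨m, hm, rfl⟩ := h
  exact M.mul_mem (M.mul_mem hm (hC (mem_centralizer_singleton_iff.2 rfl))) (M.inv_mem hm)

theorem Member.mul_self (hz : z * z = 1) {x : G} (h : Member M z x) : x * x = 1 := by
  obtain ⟨m, -, rfl⟩ := h
  rw [show m * z * m⁻¹ * (m * z * m⁻¹) = m * (z * z) * m⁻¹ by group, hz, mul_one, mul_inv_cancel]

/-- A conjugator between members lies in `M`. -/
theorem Member.conj_mem (hC : centralizer {z} ≤ M) {x a b : G} (ha : Member M z a)
    (hb : Member M z b) (e : x * a * x⁻¹ = b) : x ∈ M := by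
  obtain ⟨m₀, hm₀, rfl⟩ := ha
  obtain ⟨m₁, hm₁, rfl⟩ := hb
  have h1 : (m₁⁻¹ * x * m₀) ∈ M := hC (mem_centralizer_singleton_iff.2 (by
    calc m₁⁻¹ * x * m₀ * z = m₁⁻¹ * (x * (m₀ * z * m₀⁻¹) * x⁻¹) * (x * m₀) := by group
      _ = m₁⁻¹ * (m₁ * z * m₁⁻¹) * (x * m₀) := by rw [e]
      _ = z * (m₁⁻¹ * x * m₀) := by group))
  have := M.mul_mem (M.mul_mem hm₁ h1) (M.inv_mem hm₀)
  simpa [mul_assoc] using this

theorem Member.mem_of_commute (hC : centralizer {z} ≤ M) {a x : G} (ha : Member M z a)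
    (hx : Commute x a) : x ∈ M :=
  ha.conj_mem hC ha (mul_inv_eq_iff_eq_mul.2 hx.eq)

/-- A conjugate of `z` commuting with a member is a member. -/
theorem Member.of_commute (hC : centralizer {z} ≤ M)
    (hfus : ∀ g, g * z * g⁻¹ ∈ M → ∃ m ∈ M, m * z * m⁻¹ = g * z * g⁻¹) {a x : G}
    (ha : Member M z a) (hx : ∃ g, g * z * g⁻¹ = x) (h : Commute x a) : Member M z x := by
  obtain ⟨g, rfl⟩ := hx
  exact hfus g (ha.mem_of_commute hC h)

variable (M)

/-- With all involution centralisers of `M` in `M` and two classes, `M = G`. -/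
theorem eq_top_of_centralizers [Finite G] (hz : z * z = 1) (hC : centralizer {z} ≤ M)
    (hfus : ∀ g, g * z * g⁻¹ ∈ M → ∃ m ∈ M, m * z * m⁻¹ = g * z * g⁻¹)
    (hcent : ∀ i ∈ M, i * i = 1 → i ≠ 1 → ∀ x, Commute x i → x ∈ M)
    (hother : ∃ i ∈ M, i * i = 1 ∧ i ≠ 1 ∧ ∀ m ∈ M, m * z * m⁻¹ ≠ i) : M = ⊤ := by
  refine eq_top_iff.2 fun g _ => ?_
  by_cases hu : g * z * g⁻¹ ∈ M
  · exact Member.conj_mem hC ⟨1, M.one_mem, by group⟩ (hfus g hu) rfl
  · exfalso
    obtain ⟨i, hi, hi2, hi1, him⟩ := hother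
    have hu2 : g * z * g⁻¹ * (g * z * g⁻¹) = 1 := by
      rw [show g * z * g⁻¹ * (g * z * g⁻¹) = g * (z * z) * g⁻¹ by group, hz, mul_one, mul_inv_cancel]
    rcases Nat.even_or_odd (orderOf (g * z * g⁻¹ * i)) with he | ho
    · obtain ⟨k, hk2, hk1, hku, hki⟩ := exists_central_of_even hu2 hi2 he
      exact hu (hcent k (hcent i hi hi2 hi1 k hki) hk2 hk1 _ hku.symm)
    · obtain ⟨y, -, hy⟩ := exists_conj_eq_of_odd hu2 hi2 ho
      have e : y * (g * z * g⁻¹) * y⁻¹ = (y * g) * z * (y * g)⁻¹ := by group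
      rw [e] at hy
      obtain ⟨m, hm, e'⟩ := hfus (y * g) (hy ▸ hi)
      exact him m hm (e'.trans hy)

/-- **Top lemma.** -/
theorem eq_top [Finite G] (hz : z * z = 1) (hC : centralizer {z} ≤ M)
    (hfus : ∀ g, g * z * g⁻¹ ∈ M → ∃ m ∈ M, m * z * m⁻¹ = g * z * g⁻¹)
    (hloc : ∀ i ∈ M, i * i = 1 → i ≠ 1 → (∀ m ∈ M, m * z * m⁻¹ ≠ i) →
      ∃ g, g * z * g⁻¹ ∈ M ∧ ∀ h, Commute h i →
        Relation.ReflTransGen (Linked z) (g * z * g⁻¹) (h * (g * z * g⁻¹) * h⁻¹))
    (hother : ∃ i ∈ M, i * i = 1 ∧ i ≠ 1 ∧ ∀ m ∈ M, m * z * m⁻¹ ≠ i) : M = ⊤ := by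
  refine eq_top_of_centralizers M hz hC hfus (fun i hi hi2 hi1 x hx => ?_) hother
  by_cases hm : Member M z i
  · exact hm.mem_of_commute hC hx
  · obtain ⟨g, hg, hgl⟩ := hloc i hi hi2 hi1 fun m hm' e => hm ⟨m, hm', e⟩
    have hchain : ∀ y, Relation.ReflTransGen (Linked z) (g * z * g⁻¹) y → Member M z y := by
      intro y hy
      induction hy with
      | refl => exact hfus g hg
      | tail _ hxy ih => exact ih.of_commute hC hfus hxy.1 hxy.2.symm
    exact (hchain _ .refl).conj_mem hC (hchain _ (hgl x hx)) rfl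

/-- The centraliser of the product of two commuting members lies in `M`. -/
theorem mem_of_commute_pair [Finite G] (hz : z * z = 1) (hC : centralizer {z} ≤ M)
    (hfus : ∀ g, g * z * g⁻¹ ∈ M → ∃ m ∈ M, m * z * m⁻¹ = g * z * g⁻¹) {u v : G}
    (hu : Member M z u) (hv : Member M z v) (huv : Commute u v) (hne : u ≠ v)
    (hpair : ∀ w, Member M z w → Commute w (u * v) → Member M z (u * v * w) → w = u ∨ w = v)
    {e f : G} (he : Member M z e) (hf : Member M z f) (heu : Commute e u) (hev : Commute e v)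
    (hfu : Commute f u) (hfv : Commute f v) (hef : Commute e f) (hg : Member M z (u * v * e * f)) :
    ∀ x, Commute x (u * v) → x ∈ M := by
  classical
  by_cases him : Member M z (u * v)
  · exact fun x hx => him.mem_of_commute hC hx
  set i := u * v with hi
  have hu2 := hu.mul_self hz
  have hv2 := hv.mul_self hz
  have hi2 : i * i = 1 := by
    rw [hi, mul_assoc, ← mul_assoc v u v, ← huv.eq, mul_assoc u v v, hv2, mul_one, hu2]
  have hi1 : i ≠ 1 := fun h => hne <| by
    rw [hi] at h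
    calc u = u * (v * v) := by rw [hv2, mul_one]
      _ = v := by rw [← mul_assoc, h, one_mul]
  have hiu : u * i = v := by rw [hi, ← mul_assoc, hu2, one_mul]
  let K : Subgroup G := centralizer {i}
  have hK : ∀ x, x ∈ K ↔ Commute x i := fun x => mem_centralizer_singleton_iff
  have cu : Commute u i := (Commute.refl u).mul_right huv
  have ce : Commute e i := heu.mul_right hev
  have cf : Commute f i := hfu.mul_right hfv
  let i' : K := ⟨i, (hK i).2 (Commute.refl i)⟩
  let C0 : Subgroup K := zpowers i'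
  have hcen : ∀ x : K, Commute x i' := fun x => Subtype.ext ((hK x).1 x.2).eq
  have hC0n : C0.Normal := ⟨fun n hn x => by
    obtain ⟨j, rfl⟩ := mem_zpowers_iff.1 hn
    rwa [((hcen x).zpow_right j).eq, mul_inv_cancel_right]⟩
  let π := QuotientGroup.mk' C0
  have hπ : ∀ x : K, π x = 1 → (x : G) = 1 ∨ (x : G) = i := by
    intro x hx
    obtain ⟨j, rfl⟩ := mem_zpowers_iff.1 ((QuotientGroup.eq_one_iff x).1 hx)
    rw [SubgroupClass.coe_zpow]
    obtain ⟨l, rfl | rfl⟩ := j.even_or_odd'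
    · exact Or.inl (by rw [zpow_mul, zpow_two, hi2, one_zpow])
    · exact Or.inr (by rw [zpow_add, zpow_mul, zpow_two, hi2, one_zpow, one_mul, zpow_one])
  have hmem1 : ∀ x : K, Member M z (x : G) → π x ≠ 1 := by
    intro x hx hπx
    rcases hπ x hπx with h | h
    · obtain ⟨m, -, e'⟩ := hx
      rw [h] at e'
      have hz1 : z = 1 := by
        calc z = m⁻¹ * (m * z * m⁻¹) * m := by group
          _ = 1 := by rw [e']; group
      have h' : ∀ y, Member M z y → y = 1 := by
        rintro y ⟨m', -, rfl⟩; rw [hz1]; group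
      exact hne ((h' u hu).trans (h' v hv).symm)
    · exact him (h ▸ hx)
  let u' : K := ⟨u, (hK u).2 cu⟩
  let e₁ : K := ⟨e, (hK e).2 ce⟩
  let f₁ : K := ⟨f, (hK f).2 cf⟩
  have hs : ∀ x : K, Member M z (x : G) → π x * π x = 1 := fun x hx => by
    rw [← map_mul, show x * x = 1 from Subtype.ext (hx.mul_self hz), map_one]
  -- the image of `u` is isolated
  have hiso : Cfsg.IsIsolatedInvolution (π u') := by
    refine ⟨orderOf_eq_prime (by rw [pow_two]; exact hs u' hu) (hmem1 u' hu), fun g hc => ?_⟩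
    obtain ⟨x, rfl⟩ := QuotientGroup.mk'_surjective C0 g
    rw [← map_inv, ← map_mul, ← map_mul] at hc ⊢
    set w := x * u' * x⁻¹ with hw
    have hxi : Commute (x : G) i := (hK x).1 x.2
    have hwz : ∃ g, g * z * g⁻¹ = (w : G) := by
      obtain ⟨m, hm⟩ := hu.conj
      refine ⟨x * m, ?_⟩
      show (x : G) * m * z * (x * m)⁻¹ = x * u * (x : G)⁻¹
      rw [← hm]; group
    have hcomm : π (⁅u', w⁆) = 1 := by
      rw [map_commutatorElement]; exact commutatorElement_eq_one_iff_commute.2 hc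
    rcases hπ _ hcomm with h | h
    · have hcuw : Commute (u : G) w :=
        commutatorElement_eq_one_iff_commute.1 ((map_commutatorElement K.subtype u' w).symm.trans h)
      have hwM := hu.of_commute hC hfus hwz hcuw.symm
      have hwi : Commute (w : G) i := (hK w).1 w.2
      have hprod : Member M z (i * w) := by
        refine hwM.of_commute hC hfus ?_ (hwi.symm.mul_left (Commute.refl _))
        obtain ⟨m, hm⟩ := hv.conj
        refine ⟨x * m, ?_⟩
        calc (x : G) * m * z * (x * m)⁻¹ = x * (m * z * m⁻¹) * (x : G)⁻¹ := by group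
          _ = x * (i * u) * (x : G)⁻¹ := by rw [hm, ← cu.eq, hiu]
          _ = i * (x * u * (x : G)⁻¹) := by rw [← mul_assoc (x : G), hxi.eq]; group
      rcases hpair w hwM hwi hprod with h' | h'
      · exact congrArg π (Subtype.ext h')
      · rw [show w = u' * i' from Subtype.ext (h'.trans hiu.symm), map_mul,
          show π i' = 1 from (QuotientGroup.eq_one_iff _).2 (mem_zpowers i'), mul_one]
    · exfalso
      have h1 : ((⁅u', w⁆ : K) : G) = ⁅(u : G), (w : G)⁆ := map_commutatorElement K.subtype u' w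
      rw [h1, commutatorElement_def] at h
      -- `w` maps `u` to `v`, hence is a member; then it is `u` or `v`
      have h2 : (w : G) * u * (w : G)⁻¹ = v := by
        have h3 : u * (w : G) * u⁻¹ = i * w := mul_inv_eq_iff_eq_mul.1 h
        have hwi : Commute (w : G) i := (hK w).1 w.2
        rw [← hiu, mul_inv_eq_iff_eq_mul]
        calc (w : G) * u = u⁻¹ * (u * w * u⁻¹) * u * u := by group
          _ = u⁻¹ * (i * w) * (u * u) := by rw [h3]; group
          _ = u * (i * w) := by rw [hu2, mul_one, inv_eq_of_mul_eq_one_right hu2]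
          _ = u * i * w := (mul_assoc _ _ _).symm
      have hwM : (w : G) ∈ M := hu.conj_mem hC hv h2
      obtain ⟨g', hg'⟩ := hwz
      have hwMem : Member M z (w : G) := hg' ▸ hfus g' (hg' ▸ hwM)
      have hwi : Commute (w : G) i := (hK w).1 w.2
      have hprod : Member M z (i * w) := by
        refine ⟨u * hwMem.choose, M.mul_mem (hu.mem hC) hwMem.choose_spec.1, ?_⟩
        calc u * hwMem.choose * z * (u * hwMem.choose)⁻¹
            = u * (hwMem.choose * z * hwMem.choose⁻¹) * u⁻¹ := by group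
          _ = i * w := by rw [hwMem.choose_spec.2, mul_inv_eq_iff_eq_mul.1 h]
      have hcuw : Commute u (w : G) := by
        rcases hpair w hwMem hwi hprod with h' | h' <;> rw [h']
        exact huv
      exact hi1 (h.symm.trans (by rw [hcuw.eq]; group))
  -- Glauberman
  have hZ := ZStar.inZStar hiso
  set O := Cfsg.pPrimeCore 2 (K ⧸ C0) with hO
  have hOodd : Odd (Nat.card O) := Nat.coprime_two_right.1 PCore.coprime_card_pPrimeCore
  have hord : ∀ y ∈ O, Odd (orderOf y) := fun y hy => hOodd.of_dvd_nat (O.orderOf_dvd_natCard hy)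
  have hOn : O.Normal := inferInstance
  let S : Subgroup (K ⧸ C0) := (M.subgroupOf K).map π
  have hlift : ∀ (x a : K), Member M z (a : G) → Odd (orderOf (π x)) → Commute (π x) (π a) →
      (x : G) ∈ M := by
    intro x a ha hodd hc
    have hcomm : π (⁅x, a⁆) = 1 := by
      rw [map_commutatorElement]; exact commutatorElement_eq_one_iff_commute.2 hc
    set n := orderOf (π x) with hn
    have hxn : Commute (x ^ n) a := by
      rcases hπ _ (show π (x ^ n) = 1 by rw [map_pow, hn, pow_orderOf_eq_one]) with h | h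
      · rw [show x ^ n = 1 from Subtype.ext h]; exact Commute.one_left a
      · rw [show x ^ n = i' from Subtype.ext h]; exact (hcen a).symm
    refine ha.mem_of_commute hC ?_
    rcases hπ _ hcomm with h | h
    · exact commutatorElement_eq_one_iff_commute.1 ((map_commutatorElement K.subtype x a).symm.trans h)
    · exfalso
      have hh : x * a * x⁻¹ = i' * a := by
        rw [show i' = ⁅x, a⁆ from (Subtype.ext h).symm, commutatorElement_def]; group
      have hpow : ∀ j : ℕ, x ^ j * a * (x ^ j)⁻¹ = i' ^ j * a := by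
        intro j
        induction j with
        | zero => simp
        | succ j ih =>
          rw [pow_succ' x j, mul_inv_rev,
            show x * x ^ j * a * ((x ^ j)⁻¹ * x⁻¹) = x * (x ^ j * a * (x ^ j)⁻¹) * x⁻¹ by group, ih,
            ← mul_assoc, ((hcen x).pow_right j).eq,
            show i' ^ j * x * a * x⁻¹ = i' ^ j * (x * a * x⁻¹) by group, hh, ← mul_assoc, ← pow_succ]
      have h1 := hpow n
      rw [hxn.eq, mul_inv_cancel_right, eq_comm, mul_eq_right] at h1
      obtain ⟨l, hl⟩ := hodd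
      rw [hl, pow_add, pow_mul, pow_two, show i' * i' = 1 from Subtype.ext hi2, one_pow, one_mul,
        pow_one] at h1
      exact hi1 (congrArg Subtype.val h1)
  -- `O` is in the image of `M`
  have hOS : O ≤ S := by
    let A : Subgroup (K ⧸ C0) :=
      { carrier := {x | x = 1 ∨ x = π e₁ ∨ x = π f₁ ∨ x = π e₁ * π f₁}
        one_mem' := Or.inl rfl
        mul_mem' := by
          have hc : π f₁ * π e₁ = π e₁ * π f₁ := by
            rw [← map_mul, ← map_mul, show f₁ * e₁ = e₁ * f₁ from Subtype.ext hef.eq.symm]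
          have h1 := hs e₁ he
          have h2 := hs f₁ hf
          have h3 : π e₁ * (π e₁ * π f₁) = π f₁ := by rw [← mul_assoc, h1, one_mul]
          have h4 : π f₁ * (π e₁ * π f₁) = π e₁ := by rw [← mul_assoc, hc, mul_assoc, h2, mul_one]
          have h5 : π e₁ * π f₁ * π f₁ = π e₁ := by rw [mul_assoc, h2, mul_one]
          have h6 : π e₁ * π f₁ * π e₁ = π f₁ := by rw [mul_assoc, hc, h3]
          have h7 : π e₁ * π f₁ * (π e₁ * π f₁) = 1 := by rw [mul_assoc, h4, h1]
          rintro a b (rfl | rfl | rfl | rfl) (rfl | rfl | rfl | rfl) <;>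
            simp [h1, h2, h3, h4, h5, h6, h7, hc]
        inv_mem' := by
          have h1 := inv_eq_of_mul_eq_one_right (hs e₁ he)
          have h2 := inv_eq_of_mul_eq_one_right (hs f₁ hf)
          have hc : π f₁ * π e₁ = π e₁ * π f₁ := by
            rw [← map_mul, ← map_mul, show f₁ * e₁ = e₁ * f₁ from Subtype.ext hef.eq.symm]
          rintro a (rfl | rfl | rfl | rfl)
          · exact Or.inl inv_one
          · exact Or.inr (Or.inl h1)
          · exact Or.inr (Or.inr (Or.inl h2))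
          · exact Or.inr (Or.inr (Or.inr (by rw [mul_inv_rev, h1, h2, hc]))) }
    let g₁ : K := i' * e₁ * f₁
    have hg₁ : Member M z (g₁ : G) := hg
    have hπg : π g₁ = π e₁ * π f₁ := by
      rw [map_mul, map_mul, show π i' = 1 from (QuotientGroup.eq_one_iff _).2 (mem_zpowers i'), one_mul]
    have hrep : ∀ x ∈ A, x = 1 ∨ ∃ a : K, Member M z (a : G) ∧ π a = x := by
      rintro x (rfl | rfl | rfl | rfl)
      · exact Or.inl rfl
      · exact Or.inr ⟨e₁, he, rfl⟩
      · exact Or.inr ⟨f₁, hf, rfl⟩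
      · exact Or.inr ⟨g₁, hg₁, hπg⟩
    have hne' : π e₁ ≠ π f₁ := fun h => hmem1 g₁ hg₁ (by rw [hπg, h, hs f₁ hf])
    have hAc : IsMulCommutative A := ⟨⟨fun a b => Subtype.ext (by
      have hc : Commute (π e₁) (π f₁) := (hef : Commute e f) |> fun h =>
        (show Commute e₁ f₁ from Subtype.ext h.eq).map π
      rcases a.2 with ha | ha | ha | ha <;> rcases b.2 with hb | hb | hb | hb <;>
        show (a : K ⧸ C0) * b = b * a <;> rw [ha, hb] <;>
        first
          | exact Commute.one_left _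
          | exact Commute.one_right _
          | exact Commute.refl _
          | exact hc
          | exact hc.symm
          | exact (Commute.refl _).mul_right hc
          | exact hc.symm.mul_right (Commute.refl _)
          | exact ((Commute.refl _).mul_right hc).symm
          | exact (hc.symm.mul_right (Commute.refl _)).symm)⟩⟩
    have hcop : (Nat.card A).Coprime (Nat.card O) := by
      have h2 : IsPGroup 2 A := fun a => ⟨1, Subtype.ext (by
        rw [SubmonoidClass.coe_pow, pow_one, pow_two]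
        rcases hrep a a.2 with h | ⟨b, hb, h⟩
        · rw [h, mul_one]; rfl
        · rw [← h]; exact hs b hb)⟩
      obtain ⟨n, hn⟩ := IsPGroup.iff_card.1 h2
      rw [hn]; exact (Nat.coprime_two_left.2 hOodd).pow_left n
    refine Coprime.le_of_forall_cyclic_quotient (normalizer_eq_top (H := O) ▸ le_top) hcop ?_
    rintro B hB ⟨a, ha, hBa⟩ y ⟨hy, hyB⟩
    obtain ⟨b, hb, hb1⟩ : ∃ b ∈ B, b ≠ 1 := by
      by_contra! hall
      rw [(Subgroup.eq_bot_iff_forall B).2 hall, bot_sup_eq] at hBa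
      have hcard : Nat.card A ≤ 2 := by
        rw [← hBa, Nat.card_zpowers]
        refine orderOf_le_of_pow_eq_one two_pos ?_
        rcases hrep a ha with h | ⟨b, hb, h⟩
        · rw [h, one_pow]
        · rw [← h, pow_two]; exact hs b hb
      have h3 : ({1, π e₁, π f₁} : Finset (K ⧸ C0)).card ≤ Nat.card A := by
        rw [← Nat.card_eq_finsetCard]
        refine Nat.card_le_card_of_injective (fun x => (⟨x.1, ?_⟩ : A)) fun x y h =>
          Subtype.ext (congrArg (fun t : A => (t : K ⧸ C0)) h :)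
        have := x.2
        simp only [Finset.mem_insert, Finset.mem_singleton] at this
        rcases this with h | h | h <;> rw [h]
        · exact Or.inl rfl
        · exact Or.inr (Or.inl rfl)
        · exact Or.inr (Or.inr (Or.inl rfl))
      rw [Finset.card_insert_of_notMem, Finset.card_pair hne'] at h3
      · omega
      · simp [Ne.symm (hmem1 e₁ he), Ne.symm (hmem1 f₁ hf)]
    obtain ⟨c, hc, rfl⟩ := (hrep b (hB hb)).resolve_left hb1
    obtain ⟨x, rfl⟩ := QuotientGroup.mk'_surjective C0 y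
    exact ⟨x, hlift x c hc (hord _ hy) (mem_centralizer_iff.1 hyB _ hb).symm, rfl⟩
  -- conclusion
  intro x hx
  let x' : K := ⟨x, (hK x).2 hx⟩
  have hsq := hs u' hu
  have hinv : (π u')⁻¹ = π u' := inv_eq_of_mul_eq_one_right hsq
  have hmemO : π u' * (π x' * π u' * (π x')⁻¹) ∈ O := by
    have := hOn.conj_mem _ (hZ (π x')) (π u')
    rwa [hinv, show π u' * (π x' * π u' * (π x')⁻¹ * π u') * π u' =
      π u' * (π x' * π u' * (π x')⁻¹) * (π u' * π u') by group, hsq, mul_one] at this
  have hw2 : π x' * π u' * (π x')⁻¹ * (π x' * π u' * (π x')⁻¹) = 1 := by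
    rw [show π x' * π u' * (π x')⁻¹ * (π x' * π u' * (π x')⁻¹) =
      π x' * (π u' * π u') * (π x')⁻¹ by group, hsq, mul_one, mul_inv_cancel]
  obtain ⟨y, hy, hyu⟩ := exists_conj_eq_of_odd hsq hw2 (hord _ hmemO)
  obtain ⟨y₀, hy₀, rfl⟩ := hOS (zpowers_le.2 hmemO hy)
  -- `x = y₀ * t` with `t` fixing `{u, v}`
  have ht : π (y₀⁻¹ * x') * π u' * (π (y₀⁻¹ * x'))⁻¹ = π u' := by
    rw [map_mul, map_inv, mul_inv_rev, inv_inv,
      show (π y₀)⁻¹ * π x' * π u' * ((π x')⁻¹ * π y₀) =
        (π y₀)⁻¹ * (π x' * π u' * (π x')⁻¹) * π y₀ by group, ← hyu]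
    group
  rw [← map_inv, ← map_mul, ← map_mul] at ht
  have ht' := hπ ((y₀⁻¹ * x' * u' * (y₀⁻¹ * x')⁻¹) * u'⁻¹) (by
    rw [map_mul, ht, map_inv, mul_inv_cancel])
  have hxt : ((y₀⁻¹ * x' : K) : G) ∈ M := by
    set t := ((y₀⁻¹ * x' : K) : G) with hteq
    have hcoe : ((y₀⁻¹ * x' * u' * (y₀⁻¹ * x')⁻¹ * u'⁻¹ : K) : G) = t * u * t⁻¹ * u⁻¹ := rfl
    rw [hcoe] at ht'
    rcases ht' with h | h
    · exact hu.conj_mem hC hu (mul_inv_eq_one.1 h)
    · exact hu.conj_mem hC hv (by rw [mul_inv_eq_iff_eq_mul.1 h, ← cu.eq, hiu])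
  have hfin : (y₀ : G) * ((y₀⁻¹ * x' : K) : G) = x := by
    show (y₀ : G) * ((y₀ : G)⁻¹ * x) = x
    rw [mul_inv_cancel_left]
  exact hfin ▸ M.mul_mem hy₀ hxt

/-- **Top lemma, pair form.** -/
theorem eq_top_of_pairs [Finite G] (hz : z * z = 1) (hC : centralizer {z} ≤ M)
    (hfus : ∀ g, g * z * g⁻¹ ∈ M → ∃ m ∈ M, m * z * m⁻¹ = g * z * g⁻¹)
    (hpair : ∀ u v w, Member M z u → Member M z v → u ≠ v → Commute u v → Member M z w →
      Commute w (u * v) → Member M z (u * v * w) → w = u ∨ w = v)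
    (hline : ∀ u v, Member M z u → Member M z v → u ≠ v → Commute u v → ∃ e f, Member M z e ∧
      Member M z f ∧ Commute e u ∧ Commute e v ∧ Commute f u ∧ Commute f v ∧ Commute e f ∧
      Member M z (u * v * e * f))
    (hsplit : ∀ i ∈ M, i * i = 1 → i ≠ 1 → ¬ Member M z i → ∃ a b, Member M z a ∧ Member M z b ∧
      Commute i a ∧ Commute i b ∧ ∀ h ∈ M, Commute h i → h * a * h⁻¹ ≠ b)
    (hother : ∃ i ∈ M, i * i = 1 ∧ i ≠ 1 ∧ ∀ m ∈ M, m * z * m⁻¹ ≠ i) : M = ⊤ := by
  refine eq_top_of_centralizers M hz hC hfus (fun i hi hi2 hi1 x hx => ?_) hother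
  by_cases hm : Member M z i
  · exact hm.mem_of_commute hC hx
  by_contra hxM
  obtain ⟨a, b, ha, hb, hia, hib, hab⟩ := hsplit i hi hi2 hi1 hm
  obtain ⟨m, hm'⟩ := ha.conj
  set w := x * a * x⁻¹ with hw
  have hwM : ¬ w ∈ M := fun h => hxM <| ha.conj_mem hC
    (show Member M z w by
      have e : x * m * z * (x * m)⁻¹ = w := by rw [hw, ← hm']; group
      exact e ▸ hfus (x * m) (e ▸ h)) rfl
  have hw2 : w * w = 1 := by
    rw [hw, show x * a * x⁻¹ * (x * a * x⁻¹) = x * (a * a) * x⁻¹ by group, ha.mul_self hz, mul_one,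
      mul_inv_cancel]
  have hwi : Commute w i := by
    rw [hw]
    exact (hx.mul_left hia.symm).mul_left hx.inv_left
  rcases Nat.even_or_odd (orderOf (b * w)) with hev | hodd
  · obtain ⟨k, hk2, hk1, hkb, hkw, g, hg⟩ :=
      exists_central_conj_of_even (z := z) (hb.mul_self hz) hw2 hb.conj
        ⟨x * m, by rw [hw, ← hm']; group⟩ hev
    have hbk : Member M z (b * k) :=
      hb.of_commute hC hfus ⟨g, hg⟩ ((Commute.refl b).mul_left hkb)
    have hne : b ≠ b * k := fun h => hk1 (mul_left_cancel (h.symm.trans (mul_one b).symm))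
    have hcb : Commute b (b * k) := (Commute.refl b).mul_right hkb.symm
    obtain ⟨e, f, he, hf, heb, hek, hfb, hfk, hef, hg'⟩ := hline b (b * k) hb hbk hne hcb
    refine hwM (mem_of_commute_pair M hz hC hfus hb hbk hcb hne
      (fun w' => hpair b (b * k) w' hb hbk hne hcb) he hf heb hek hfb hfk hef hg' w ?_)
    rwa [← mul_assoc, hb.mul_self hz, one_mul, Commute.symm_iff] 
  · obtain ⟨y, hy, hyw⟩ := exists_conj_eq_of_odd (hb.mul_self hz) hw2 hodd
    have hyi : Commute y i := by
      obtain ⟨j, rfl⟩ := mem_zpowers_iff.1 hy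
      exact (hib.symm.mul_left hwi).zpow_left j
    have e : y⁻¹ * x * a * (y⁻¹ * x)⁻¹ = b := by
      rw [show y⁻¹ * x * a * (y⁻¹ * x)⁻¹ = y⁻¹ * (x * a * x⁻¹) * y by group, ← hw, ← hyw]; group
    exact hab (y⁻¹ * x) (ha.conj_mem hC hb e) (hyi.inv_left.mul_left hx) e

end Cfsg.Agent.U6Recog
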