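import Cfsg.Agent.Lib.U6Recog.Count
import Cfsg.Agent.Lib.U6Recog.Identify
import Cfsg.Agent.Lib.U6Recog.Split
import Cfsg.Agent.Lib.U6Recog.Top

/-!
# The subgroup of the component is the whole group

`psu_of_data`: if the component at `z` carries a labelling by the isotropic points and
`|C(z)| = 13271040`, the group is `PSU₆(2)`.
-/

set_option autoImplicit false
set_option maxRecDepth 20000

namespace Cfsg.Agent.U6Recog

open Cfsg.Agent.Presented FiU6Iso

variable {G : Type*} [Group G]

namespace Data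

variable {S : Set G} {phi : G → Fin 6 → FiU6.K} (D : Data S phi)
include D

/-- The isomorphism to `PSU₆(2)` sends the members onto the transvections. -/
theorem exists_classIso : ∃ e : Subgroup.closure S ≃* PU,
    ∀ a : Subgroup.closure S, (a : G) ∈ S ↔ e a ∈ Split.D0 := by
  let e' : PU ≃* Subgroup.closure S :=
    ((QuotientGroup.quotientMulEquivOfEq D.ker_suHom.symm).trans
      (QuotientGroup.quotientKerEquivRange D.suHom)).trans
        ((MulEquiv.subgroupCongr D.range_eq).trans (MonoidHom.ofInjective D.conjHom_injective).symm)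
  have h0 : ∀ A : FiU6.SU6, D.conjHom (e' (Split.mk A)) = D.suHom A := fun A => by
    simp only [e', MulEquiv.trans_apply]
    exact congrArg Subtype.val
      ((MonoidHom.ofInjective D.conjHom_injective).apply_symm_apply _)
  have h1 : ∀ a : S, e' (Split.mk (D.trv a)) = ⟨a, Subgroup.subset_closure a.2⟩ := fun a =>
    D.conjHom_injective (by rw [h0, D.suHom_trv])
  refine ⟨e'.symm, fun a => ⟨fun ha => ?_, fun ha => ?_⟩⟩
  · rw [show a = e' (Split.mk (D.trv ⟨a, ha⟩)) from (h1 ⟨a, ha⟩).symm, e'.symm_apply_apply]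
    exact Split.tv_mem (D.hne _ ha) (FiU6.hermB_of (D.hiso _ ha))
  · obtain ⟨v, hv, hv0, e⟩ := Split.exists_of_mem ha
    obtain ⟨b, c, hc, hb⟩ := D.exists_member hv hv0
    have h2 : a = e' (Split.mk (D.trv b)) := by
      rw [← e'.apply_symm_apply a, e]
      exact congrArg (fun t => e' (Split.mk t)) (Split.mkT_eq_of_smul _ _ _ _ hc hb)
    rw [h2, h1 b]
    exact b.2

end Data

variable {D : Set G} {z : G}

/-- `G` is `PSU₆(2)` given the labelling of the component. -/
theorem Loc.psu_of_data [Finite G] (L : Loc D z) {phi : G → Fin 6 → FiU6.K}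
    (hdata : Data (compS D z) phi)
    (hcard : Nat.card (Subgroup.centralizer ({z} : Set G)) = 13271040) :
    Nonempty (G ≃* PU) := by
  classical
  obtain ⟨e, he⟩ : ∃ e : Subgroup.closure (compS D z) ≃* PU,
      ∀ a : Subgroup.closure (compS D z), (a : G) ∈ compS D z ↔ e a ∈ Split.D0 :=
    hdata.exists_classIso
  let M := Subgroup.closure (compS D z)
  have hzS : z ∈ compS D z := L.mem_comp_self
  let z' : M := ⟨z, Subgroup.subset_closure hzS⟩
  have hsub : ∀ {x : G}, x ∈ compS D z → x ∈ M := fun h => Subgroup.subset_closure h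
  have htr : ∀ a : M, (a : G) ∈ compS D z → IsConj z' a := fun a ha => by
    have h1 : IsConj (pu 0) (e a) := (he a).1 ha
    have h2 : IsConj (pu 0) (e z') := (he z').1 hzS
    simpa using e.symm.toMonoidHom.map_isConj (h2.symm.trans h1)
  have hmem : ∀ x, Member M z x ↔ x ∈ compS D z := fun x => by
    refine ⟨?_, fun hx => ?_⟩
    · rintro ⟨m, hm, rfl⟩
      exact (hdata.conj_mem hm hzS).1
    · obtain ⟨m, hm⟩ := isConj_iff.1 (htr ⟨x, hsub hx⟩ hx)
      exact ⟨m, m.2, congrArg Subtype.val hm⟩
  have hzz : z * z = 1 := hdata.mul_self hzS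
  -- the centralizer of `z` lies in `M`
  have horb : MulAction.orbit (ConjAct M) z' = {a : M | (a : G) ∈ compS D z} := by
    ext a
    rw [ConjAct.mem_orbit_conjAct]
    refine ⟨fun h => ?_, fun h => (htr a h).symm⟩
    obtain ⟨m, hm⟩ := isConj_iff.1 h.symm
    show (a : G) ∈ compS D z
    rw [← hm]
    exact (hdata.conj_mem m.2 hzS).1
  have hS : {a : M | (a : G) ∈ compS D z}.ncard = 693 := by
    rw [← Nat.card_coe_set_eq, ← hdata.hcard]
    exact Nat.card_congr ⟨fun a => ⟨a.1.1, a.2⟩, fun a => ⟨⟨a.1, hsub a.2⟩, a.2⟩, fun a => rfl,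
      fun a => rfl⟩
  have hstab : Nat.card (MulAction.stabilizer (ConjAct M) z') = 13271040 := by
    have h := (MulAction.stabilizer (ConjAct M) z').card_mul_index
    rw [MulAction.index_stabilizer, horb, hS, show Nat.card (ConjAct M) = Nat.card M from rfl,
      Nat.card_congr e.toEquiv, card_PU] at h
    omega
  have hC : Subgroup.centralizer {z} ≤ M := by
    let f : MulAction.stabilizer (ConjAct M) z' → Subgroup.centralizer ({z} : Set G) := fun s =>
      ⟨((ConjAct.ofConjAct s.1 : M) : G), Subgroup.mem_centralizer_singleton_iff.2 (by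
        have h : ConjAct.ofConjAct s.1 * z' * (ConjAct.ofConjAct s.1)⁻¹ = z' := by
          rw [← ConjAct.smul_def]; exact s.2
        exact congrArg Subtype.val (mul_inv_eq_iff_eq_mul.1 h))⟩
    have hf : Function.Injective f := fun s t h =>
      Subtype.ext (ConjAct.ofConjAct.injective (Subtype.ext (congrArg (fun u => u.1) h :)))
    have hb := (Nat.bijective_iff_injective_and_card f).2 ⟨hf, hstab.trans hcard.symm⟩
    intro c hc
    obtain ⟨s, hs⟩ := hb.2 ⟨c, hc⟩
    rw [← show ((ConjAct.ofConjAct s.1 : M) : G) = c from congrArg (fun u => u.1) hs]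
    exact (ConjAct.ofConjAct s.1).2
  have hfus : ∀ g, g * z * g⁻¹ ∈ M → ∃ m ∈ M, m * z * m⁻¹ = g * z * g⁻¹ := fun g hg => by
    refine (hmem _).2 ?_
    have ha : g * z * g⁻¹ ∈ D := L.conj_mem g z L.mem
    have h := (L.atMem _ ha).fix_unique L.mem fun y hy => (hdata.conj_mem hg hy).1
    rw [h]
    exact (L.atMem _ ha).mem_comp_self
  -- transfer from the model
  have hd : ∀ a : M, Member M z (a : G) ↔ e a ∈ Split.D0 := fun a => (hmem _).trans (he a)
  have lift : ∀ {x}, Member M z x → x ∈ M := fun h => hsub ((hmem _).1 h)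
  have back : ∀ t : PU, t ∈ Split.D0 → Member M z ((e.symm t : M) : G) := fun t ht =>
    (hd _).2 (by rwa [e.apply_symm_apply])
  have cback : ∀ {s t : PU}, Commute s t → Commute ((e.symm s : M) : G) ((e.symm t : M) : G) :=
    fun h => (h.map e.symm.toMonoidHom).map M.subtype
  have cmap : ∀ {a b : M}, Commute (a : G) (b : G) → Commute (e a) (e b) :=
    fun h => Commute.map (Subtype.ext h.eq) e.toMonoidHom
  have hother : ∃ i ∈ M, i * i = 1 ∧ i ≠ 1 ∧ ∀ m ∈ M, m * z * m⁻¹ ≠ i := by
    obtain ⟨g, hg, hg1, hgD⟩ := Split.exists_other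
    refine ⟨(e.symm g : M), (e.symm g).2, ?_, ?_, fun m hm h => ?_⟩
    · have : e.symm g * e.symm g = 1 := by rw [← map_mul, hg, map_one]
      exact congrArg Subtype.val this
    · intro h
      exact hg1 (by simpa using congrArg e (show e.symm g = 1 from Subtype.ext h))
    · exact hgD (by simpa using (hd _).1 ⟨m, hm, h⟩)
  have hsplit : ∀ i ∈ M, i * i = 1 → i ≠ 1 → ¬ Member M z i → ∃ a b, Member M z a ∧ Member M z b ∧
      Commute i a ∧ Commute i b ∧ ∀ h ∈ M, Commute h i → h * a * h⁻¹ ≠ b := by
    intro i hi hi2 hi1 hn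
    let i' : M := ⟨i, hi⟩
    obtain ⟨u, hu, v, hv, hiu, hiv, huv⟩ := Split.split (e i')
      (by rw [← map_mul, show i' * i' = 1 from Subtype.ext hi2, map_one])
      (fun h => hi1 (congrArg Subtype.val (e.map_eq_one_iff.1 h)))
      (fun h => hn ((hd i').2 h))
    refine ⟨_, _, back u hu, back v hv, ?_, ?_, fun h hh hhi hab => ?_⟩
    · simpa [i'] using cback hiu
    · simpa [i'] using cback hiv
    · refine huv (e ⟨h, hh⟩) (cmap hhi) ?_
      have : (⟨h, hh⟩ : M) * e.symm u * (⟨h, hh⟩ : M)⁻¹ = e.symm v := Subtype.ext hab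
      simpa using congrArg e this
  have hpair : ∀ u v w, Member M z u → Member M z v → u ≠ v → Commute u v → Member M z w →
      Commute w (u * v) → Member M z (u * v * w) → w = u ∨ w = v := by
    intro u v w hu hv hne huv hw hc hp
    let u' : M := ⟨u, lift hu⟩
    let v' : M := ⟨v, lift hv⟩
    let w' : M := ⟨w, lift hw⟩
    have h := Split.pair (u := e u') (v := e v') (w := e w') ((hd u').1 hu) ((hd v').1 hv)
      ((hd w').1 hw) (fun h => hne (congrArg Subtype.val (e.injective h))) (cmap huv)
      (by rw [← map_mul]; exact cmap hc) (by rw [← map_mul, ← map_mul]; exact (hd _).1 hp)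
    exact h.imp (fun h => congrArg Subtype.val (e.injective h))
      (fun h => congrArg Subtype.val (e.injective h))
  have hline : ∀ u v, Member M z u → Member M z v → u ≠ v → Commute u v → ∃ a b, Member M z a ∧
      Member M z b ∧ Commute a u ∧ Commute a v ∧ Commute b u ∧ Commute b v ∧ Commute a b ∧
      Member M z (u * v * a * b) := by
    intro u v hu hv hne huv
    let u' : M := ⟨u, lift hu⟩
    let v' : M := ⟨v, lift hv⟩
    obtain ⟨a, ha, b, hb, h1, h2, h3, h4, h5, h6⟩ := Split.line (u := e u') (v := e v')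
      ((hd u').1 hu) ((hd v').1 hv) (fun h => hne (congrArg Subtype.val (e.injective h))) (cmap huv)
    refine ⟨_, _, back a ha, back b hb, ?_, ?_, ?_, ?_, cback h5, ?_⟩
    · simpa [u'] using cback h1
    · simpa [v'] using cback h2
    · simpa [u'] using cback h3
    · simpa [v'] using cback h4
    · have := back _ h6
      simpa [u', v'] using this
  have htop : M = ⊤ := eq_top_of_pairs M hzz hC hfus hpair hline hsplit hother
  exact ⟨Subgroup.topEquiv.symm.trans ((MulEquiv.subgroupCongr htop.symm).trans e)⟩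

/-- The model over any field of four elements. -/
theorem nonempty_psu_congr {K : Type*} [Field K] [Fintype K] (hK : Fintype.card K = 4) :
    Nonempty (PU ≃* Cfsg.PSU 6 K 2) := by
  obtain ⟨r⟩ : Nonempty (FiU6.K ≃+* K) :=
    ⟨FiniteField.ringEquivOfCardEq (G2Four.card_K4.trans hK.symm)⟩
  let φ := Transpos.SU32.suMap r 6 2
  refine ⟨QuotientGroup.congr _ _ φ ?_⟩
  ext w
  simp only [Subgroup.mem_map, Subgroup.mem_center_iff]
  constructor
  · rintro ⟨y, hy, rfl⟩ v
    show v * φ y = φ y * v
    rw [← φ.apply_symm_apply v, ← map_mul, ← map_mul, hy]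
  · intro hw
    exact ⟨φ.symm w, fun v => φ.injective (by simp [map_mul, hw]), φ.apply_symm_apply w⟩

/-- `psu_of_data` over any field of four elements. -/
theorem Loc.psu_of_data_field [Finite G] (L : Loc D z) {phi : G → Fin 6 → FiU6.K}
    (hdata : Data (compS D z) phi)
    (hcard : Nat.card (Subgroup.centralizer ({z} : Set G)) = 13271040)
    {K : Type*} [Field K] [Fintype K] (hK : Fintype.card K = 4) :
    Nonempty (G ≃* Cfsg.PSU 6 K 2) := by
  obtain ⟨e⟩ := L.psu_of_data hdata hcard
  obtain ⟨f⟩ := nonempty_psu_congr hK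
  exact ⟨e.trans f⟩

end Cfsg.Agent.U6Recog
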