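import Cfsg.Agent.Lib.U6Recog.Label
import Cfsg.Agent.Lib.U6Recog.Identify
import Cfsg.Agent.Lib.U6Recog.Model

/-!
# The labelling of the component by the isotropic points, and the recognition of `U₆(2)`
-/

set_option autoImplicit false
set_option maxRecDepth 20000

namespace Cfsg.Agent.U6Recog

open scoped Classical
open Cfsg.Agent.Presented

theorem el_mul : ∀ a b : Fin 4, FiU6.el a * FiU6.el b = FiU6.el (G2Four.mulN a b) ∧
    FiU6.el a + FiU6.el b = FiU6.el (a.1 ^^^ b.1) ∧ FiU6.el a ^ 2 = FiU6.el (cjN a) ∧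
    (FiU6.el a = 0 ↔ (a : ℕ) = 0) := by decide +kernel

theorem el_mod : ∀ n : ℕ, FiU6.el n = FiU6.el (n % 4) := fun n => by
  unfold FiU6.el
  congr 1
  exact Fin.ext (by simp [Fin.val_ofNat])

theorem vec_apply (c : ℕ) (j : Fin 6) : FiU6.vec c j = FiU6.el (coN c j) := el_mod _

theorem hM_lt (u v : ℕ) : hM u v < 4 :=
  xor_lt4 (xor_lt4 (xor_lt4 (xor_lt4 (xor_lt4 (mulN_lt _ _) (mulN_lt _ _)) (mulN_lt _ _))
    (mulN_lt _ _)) (mulN_lt _ _)) (mulN_lt _ _)

theorem hermForm_vec (u v : ℕ) :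
    Cfsg.hermForm 6 FiU6.K 2 (FiU6.vec u) (FiU6.vec v) = FiU6.el (hM u v) := by
  have t : ∀ j : Fin 6, FiU6.vec u j * FiU6.vec v j ^ 2 =
      FiU6.el (G2Four.mulN (coN u j) (cjN (coN v j))) := fun j => by
    rw [vec_apply, vec_apply, (el_mul ⟨_, coN_lt v j⟩ 0).2.2.1]
    exact (el_mul ⟨_, coN_lt u j⟩ ⟨_, mulN_lt (coN v j) (coN v j)⟩).1
  have a : ∀ {x y : ℕ}, x < 4 → y < 4 → FiU6.el x + FiU6.el y = FiU6.el (x ^^^ y) := fun hx hy =>
    (el_mul ⟨_, hx⟩ ⟨_, hy⟩).2.1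
  rw [Cfsg.hermForm, Fin.sum_univ_six, t, t, t, t, t, t]
  simp only [hM]
  rw [a (mulN_lt _ _) (mulN_lt _ _), a (xor_lt4 (mulN_lt _ _) (mulN_lt _ _)) (mulN_lt _ _),
    a (xor_lt4 (xor_lt4 (mulN_lt _ _) (mulN_lt _ _)) (mulN_lt _ _)) (mulN_lt _ _),
    a (xor_lt4 (xor_lt4 (xor_lt4 (mulN_lt _ _) (mulN_lt _ _)) (mulN_lt _ _)) (mulN_lt _ _)) (mulN_lt _ _),
    a (xor_lt4 (xor_lt4 (xor_lt4 (xor_lt4 (mulN_lt _ _) (mulN_lt _ _)) (mulN_lt _ _)) (mulN_lt _ _))
      (mulN_lt _ _)) (mulN_lt _ _)]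
  rfl

theorem form_zero_iff (u v : ℕ) :
    Cfsg.hermForm 6 FiU6.K 2 (FiU6.vec u) (FiU6.vec v) = 0 ↔ hM u v = 0 := by
  rw [hermForm_vec]
  exact (el_mul ⟨_, hM_lt u v⟩ 0).2.2.2

theorem hM_symm (u v : ℕ) : hM u v = 0 → hM v u = 0 := fun h => by
  rw [← form_zero_iff, ← Forms.hermB_apply FiU6.hK] at h ⊢
  exact hB_eq_zero_comm.1 h

variable {G : Type*} [Group G] {D : Set G} [Finite G] {z : G} {L : Loc D z} {y₀ : G}

namespace Based

variable (B : Based L y₀)
include B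

theorem mulP_lt {x : ℕ} (hx : x < 512) (y : ℕ) : ∀ k, k ≤ 9 → mulP x y k < 512
  | 0, _ => hx
  | k + 1, hk => by
    simp only [mulP, forceN_eq]
    split
    · have h := List.all_eq_true.1 step_ok _ (List.mem_range.2 (mulP_lt hx y k (by omega)))
      have h' := List.all_eq_true.1 h k (List.mem_range.2 (by omega))
      simp only [Bool.and_eq_true, decide_eq_true_eq] at h'
      exact h'.1
    · exact mulP_lt hx y k (by omega)

theorem fibre_eq {k m : ℕ} (hk : k < 512) (hm : m < 512) (h : vOf k = vOf m) :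
    m = k ∨ m = k ^^^ 256 := by
  have e1 := List.all_eq_true.1 vOf_fibre.1 k (List.mem_range.2 hk)
  have e2 := List.all_eq_true.1 vOf_fibre.1 m (List.mem_range.2 hm)
  simp only [beq_iff_eq] at e1 e2
  have hkm : k % 256 = m % 256 := by
    have := List.all_eq_true.1 (List.all_eq_true.1 vOf_fibre.2 (k % 256) (List.mem_range.2 (by omega)))
      (m % 256) (List.mem_range.2 (by omega))
    simpa [← e1, ← e2, h] using this
  have hx : ∀ a < 512, a ^^^ 256 = if a < 256 then a + 256 else a - 256 := by decide +kernel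
  rw [hx k hk]
  split <;> omega

theorem W_inj {k m : ℕ} (hk : k < 512) (hm : m < 512) (h : B.W k = B.W m) : m = k := by
  have hv : vOf k = vOf m := by
    have hk' := List.all_eq_true.1 vOf_ok.1 k (List.mem_range.2 hk)
    have hm' := List.all_eq_true.1 vOf_ok.1 m (List.mem_range.2 hm)
    simp only [Bool.and_eq_true, decide_eq_true_eq] at hk' hm'
    exact (B.orbit_inj hk'.1 hm'.1 (B.W_tr k) (B.W_tr m) (by rw [h])).1
  rcases B.fibre_eq hk hm hv with e | e
  · exact e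
  · rw [e, B.W_flip] at h
    have : z = 1 := mul_eq_left.1 h.symm
    exact absurd (L.inv z L.mem) (by simp [this])

/-- `x` gets the code `c`. -/
def Lab (x : G) (c : ℕ) : Prop :=
  (x = z ∧ c = 5) ∨ (∃ i a, i < 45 ∧ a < 4 ∧ x = L.p i a ∧ c = nbN i a) ∨
    ∃ k, k < 512 ∧ x = B.W k * y₀ * (B.W k)⁻¹ ∧ c = encT k

theorem lab_exists {x : G} (hx : x ∈ compS D z) : ∃ c, B.Lab x c := by
  by_cases h : Commute x z
  · rcases L.eq_z_or_p hx.1 h.symm with e | ⟨i, a, hi, ha, e⟩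
    · exact ⟨5, .inl ⟨e, rfl⟩⟩
    · exact ⟨_, .inr (.inl ⟨i, a, hi, ha, e.symm, rfl⟩)⟩
  · obtain ⟨v, g, hv, hg, rfl⟩ := B.orbit_surj ⟨hx, h⟩
    have h' := List.all_eq_true.1 vOf_ok.2 v (List.mem_range.2 hv)
    simp only [List.any_eq_true, List.mem_range, beq_iff_eq] at h'
    obtain ⟨k, hk, rfl⟩ := h'
    rcases (B.W_tr k).eq_or hg with e | e
    · exact ⟨_, .inr (.inr ⟨k, by omega, by rw [e], rfl⟩)⟩
    · exact ⟨_, .inr (.inr ⟨k ^^^ 256, Nat.xor_lt_two_pow (n := 9) (by omega) (by norm_num),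
        by rw [B.W_flip, e], rfl⟩)⟩

theorem far_W (k : ℕ) : B.W k * y₀ * (B.W k)⁻¹ ∈ farS D z := (B.W_tr k).far B.far

theorem comm_W_p {k i a : ℕ} (hk : k < 512) (hi : i < 45) (ha : a < 4) :
    Commute (B.W k * y₀ * (B.W k)⁻¹) (L.p i a) ↔ hM (nbN i a) (encT k) = 0 := by
  rw [L.comm_iff_sec (B.far_W k) hi ha, B.sec_eq (B.W_tr k) hi, (encT_all hk).2]
  have h := List.all_eq_true.1 far_form k (List.mem_range.2 hk)
  simp only [Bool.and_eq_true] at h
  have h' := List.all_eq_true.1 (List.all_eq_true.1 h.2 i (List.mem_range.2 hi)) a (List.mem_range.2 ha)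
  rw [beq_iff_eq] at h'
  rw [← beq_iff_eq, ← h', beq_iff_eq]

theorem adj_mul {k c : ℕ} (hk : k < 512) (hc : c ∈ tCodes) :
    hM (encT k) (encT (mulX k c)) = 0 := by
  have key : ∀ {o j : ℕ}, j < 128 → ((List.range 128).all fun x => forceN (encT (o + x)) fun u =>
      tCodes.all fun c => forceN (mulX (o + x) c) fun y => hM u (encT y) == 0) = true →
      hM (encT (o + j)) (encT (mulX (o + j) c)) = 0 := fun hj h => by
    have h1 := List.all_eq_true.1 h _ (List.mem_range.2 hj)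
    rw [forceN_eq] at h1
    have h2 := List.all_eq_true.1 h1 c hc
    rw [forceN_eq] at h2
    simpa using h2
  rcases (show k < 128 ∨ (128 ≤ k ∧ k < 256) ∨ (256 ≤ k ∧ k < 384) ∨ 384 ≤ k by omega) with h | h | h | h
  · simpa using key h far_adj0
  · simpa [show 128 + (k - 128) = k by omega] using key (j := k - 128) (by omega) far_adj1
  · simpa [show 256 + (k - 256) = k by omega] using key (j := k - 256) (by omega) far_adj2
  · simpa [show 384 + (k - 384) = k by omega] using key (j := k - 384) (by omega) far_adj3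

theorem self_zero {k : ℕ} (hk : k < 512) : hM (encT k) (encT k) = 0 := by
  have h := List.all_eq_true.1 far_form k (List.mem_range.2 hk)
  simp only [Bool.and_eq_true, beq_iff_eq] at h
  exact h.1.2

theorem comm_W_W {k m : ℕ} (hk : k < 512) (hm : m < 512) :
    Commute (B.W k * y₀ * (B.W k)⁻¹) (B.W m * y₀ * (B.W m)⁻¹) ↔ hM (encT k) (encT m) = 0 := by
  have hk' := List.all_eq_true.1 vOf_ok.1 k (List.mem_range.2 hk)
  have hm' := List.all_eq_true.1 vOf_ok.1 m (List.mem_range.2 hm)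
  simp only [Bool.and_eq_true, decide_eq_true_eq] at hk' hm'
  have hv := xor_lt256 hk'.1 hm'.1
  have hg := (B.W_tr k).inv'.mul (B.W_tr m)
  have he : Commute (B.W k * y₀ * (B.W k)⁻¹) (B.W m * y₀ * (B.W m)⁻¹) ↔
      Commute y₀ ((B.W k)⁻¹ * B.W m * y₀ * ((B.W k)⁻¹ * B.W m)⁻¹) := by
    rw [← commute_conj (B.W k)⁻¹]
    simp [mul_assoc]
  rw [he, B.comm_orig_iff hv hg]
  constructor
  · rintro (h | ⟨hs, h⟩)
    · rw [B.W_inj hk hm (inv_mul_eq_one.1 h)]; exact B.self_zero hk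
    · obtain ⟨c, hc, -, hW⟩ := B.T_code hv hs
      have : B.W m = B.W (mulX k c) := by
        rw [← B.W_mul, hW, ← h, mul_inv_cancel_left]
      rw [B.W_inj (B.mulP_lt hk c 9 le_rfl) hm this.symm]
      exact B.adj_mul hk hc
  · intro h
    rcases far_diff hk hm h with hd | hd
    · left
      rcases B.fibre_eq hk hm (Nat.xor_eq_zero_iff.1 hd) with e | e
      · rw [e, inv_mul_cancel]
      · exact absurd (e ▸ h) (far_flip hk hk (B.self_zero hk))
    · right
      refine ⟨hd, ?_⟩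
      obtain ⟨c, hc, -, hW⟩ := B.T_code hv hd
      set m' := mulX k c
      have hm2 : m' < 512 := B.mulP_lt hk c 9 le_rfl
      have hm2' := List.all_eq_true.1 vOf_ok.1 m' (List.mem_range.2 hm2)
      simp only [Bool.and_eq_true, decide_eq_true_eq] at hm2'
      have ht : L.Tr (vOf k ^^^ (vOf k ^^^ vOf m)) (B.W m') := by
        rw [← B.W_mul, hW]; exact (B.W_tr k).mul (B.T_spec hv hd).1
      rw [← Nat.xor_assoc, Nat.xor_self, Nat.zero_xor] at ht
      have hvm : vOf m' = vOf m := (B.orbit_inj hm2'.1 hm'.1 (B.W_tr m') ht rfl).1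
      rcases B.fibre_eq hm2 hm hvm with e | e
      · rw [e, ← B.W_mul, inv_mul_cancel_left, hW, hvm]
      · exact absurd (e ▸ h) (far_flip hk hm2 (B.adj_mul hk hc))

theorem lab_comm {x y : G} {c d : ℕ} (hx : B.Lab x c) (hy : B.Lab y d) :
    Commute x y ↔ hM c d = 0 := by
  have z_far : ∀ k < 512, hM 5 (encT k) ≠ 0 ∧ hM (encT k) 5 ≠ 0 := fun k hk => by
    have h := List.all_eq_true.1 far_form k (List.mem_range.2 hk)
    simp only [Bool.and_eq_true, bne_iff_ne] at h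
    exact ⟨h.1.1.1, h.1.1.2⟩
  rcases hx with ⟨rfl, rfl⟩ | ⟨i, a, hi, ha, rfl, rfl⟩ | ⟨k, hk, rfl, rfl⟩ <;>
    rcases hy with ⟨rfl, rfl⟩ | ⟨j, b, hj, hb, rfl, rfl⟩ | ⟨m, hm, rfl, rfl⟩
  · exact iff_of_true (Commute.refl _) (by decide)
  · exact iff_of_true (L.z_comm j b hj hb) (nb_form ⟨j, hj⟩ ⟨j, hj⟩ ⟨b, hb⟩ ⟨b, hb⟩).1
  · exact iff_of_false (fun h => (B.far_W m).2 h.symm) (z_far m hm).1
  · exact iff_of_true (L.z_comm i a hi ha).symm (nb_form ⟨i, hi⟩ ⟨i, hi⟩ ⟨a, ha⟩ ⟨a, ha⟩).2.1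
  · rw [L.comm i j a b hi hj ha hb, ← (nb_form ⟨i, hi⟩ ⟨j, hj⟩ ⟨a, ha⟩ ⟨b, hb⟩).2.2.2, beq_iff_eq]
  · rw [Commute.symm_iff, B.comm_W_p hm hi ha]
  · exact iff_of_false (fun h => (B.far_W k).2 h) (z_far k hk).2
  · rw [B.comm_W_p hk hj hb]; exact ⟨hM_symm _ _, hM_symm _ _⟩
  · exact B.comm_W_W hk hm

theorem lab_self {x : G} {c : ℕ} (hx : B.Lab x c) : hM c c = 0 :=
  (B.lab_comm hx hx).1 (Commute.refl _)

end Based

namespace Loc

theorem exists_noncomm (L : Loc D z) {a b : G} (ha : a ∈ compS D z) (hb : b ∈ compS D z)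
    (h : ∀ w ∈ compS D z, Commute a w → Commute b w) : b = a := by
  set M := L.atMem a ha.1
  by_contra hne
  by_cases hab : Commute a b
  · obtain ⟨i, c, hi, hc, e⟩ := M.p_surj b hb.1 hab hne
    obtain ⟨k, hk⟩ := (gq_count ⟨i, hi⟩).2
    have hw := L.mem_comp_of_commute ha (M.p_D k 0 k.2 (by norm_num)) (M.z_comm k 0 k.2 (by norm_num))
    have := (M.comm i k c 0 hi k.2 hc (by norm_num)).1
      (e ▸ h _ hw (M.z_comm k 0 k.2 (by norm_num)))
    exact Bool.false_ne_true (hk.symm.trans this)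
  · exact hab (h a ha (Commute.refl _)).symm

/-- The component is labelled by the isotropic points. -/
theorem exists_data (L : Loc D z) : ∃ phi, Data (compS D z) phi := by
  obtain ⟨L', y₀, B⟩ := L.exists_based
  let code : G → ℕ := fun x => if h : ∃ c, B.Lab x c then h.choose else 0
  have hcode : ∀ x ∈ compS D z, B.Lab x (code x) := fun x hx => by
    simp only [code, dif_pos (B.lab_exists hx)]
    exact (B.lab_exists hx).choose_spec
  have hc : ∀ a ∈ compS D z, ∀ b ∈ compS D z, (Commute a b ↔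
      Cfsg.hermForm 6 FiU6.K 2 (FiU6.vec (code a)) (FiU6.vec (code b)) = 0) := fun a ha b hb => by
    rw [form_zero_iff]; exact B.lab_comm (hcode a ha) (hcode b hb)
  refine ⟨fun x => FiU6.vec (code x),
    { hinv := fun a ha => L.inv a ha.1
      hconj := fun a ha b hb => L.conj_comp ha (by rw [mul_inv_cancel_right]; exact ha) hb
      hcard := by rw [Nat.card_coe_set_eq]; exact L.card_comp
      hne := fun a ha e => ?_
      hiso := fun a ha => (hc a ha a ha).1 (Commute.refl _)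
      hinj := fun a ha b hb c e => (L.exists_noncomm ha hb fun w hw h => (hc b hb w hw).2 ?_).symm
      hcomm := hc
      hfaith := fun g _ hg => ?_ }⟩
  · have hall : ∀ w ∈ compS D z, Commute a w := fun w hw => (hc a ha w hw).2 (by
      rw [show FiU6.vec (code a) = 0 from e]; simp [Cfsg.hermForm])
    set M := L.atMem a ha.1
    obtain ⟨w, hw, hwa⟩ := M.exists_far
    exact hwa (hall w (L.comp_eq ha ▸ hw)).symm
  · have h0 := (hc a ha w hw).1 h
    simp only [Cfsg.hermForm] at h0 ⊢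
    rw [show FiU6.vec (code b) = c • FiU6.vec (code a) from e]
    simp only [Pi.smul_apply, smul_eq_mul, mul_assoc, ← Finset.mul_sum, h0, mul_zero]
  · rcases L.ker g (hg z L.mem_comp_self) (fun i a hi ha => hg _
      (L.mem_comp_of_commute L.mem_comp_self (L.p_D i a hi ha) (L.z_comm i a hi ha))) with e | e
    · exact e
    · subst e
      obtain ⟨w, hw, hwz⟩ := L.exists_far
      exact absurd (hg w hw).symm hwz

/-- Recognition: `G` is `PSU₆(2)`. -/
theorem psu (L : Loc D z)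
    (hcard : Nat.card (Subgroup.centralizer ({z} : Set G)) = 13271040)
    {K : Type*} [Field K] [Fintype K] (hK : Fintype.card K = 4) :
    Nonempty (G ≃* Cfsg.PSU 6 K 2) := by
  obtain ⟨phi, hdata⟩ := L.exists_data
  exact L.psu_of_data_field hdata hcard hK

end Loc

end Cfsg.Agent.U6Recog
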