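import Cfsg.Agent.Lib.U6Recog.Trans

/-! # The translations to the neighbours of the origin -/

set_option autoImplicit false
set_option maxRecDepth 20000

namespace Cfsg.Agent.U6Recog

open scoped Classical

theorem sing_not_zero : ∀ i : Fin 45, ∀ l : Fin 4, (l : ℕ) ≠ 0 → scN l (ptV i) ≠ 0 := by decide +kernel

theorem singB_iff {v : ℕ} : singB v = true ↔ v ≠ 0 ∧ hN v v = 0 := by
  simp [singB]

variable {G : Type*} [Group G] {D : Set G} [Finite G] {z : G} {L : Loc D z} {y₀ : G}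

/-- `g` translates by `a` and moves the origin to a neighbour. -/
def IsT (L : Loc D z) (y₀ : G) (a : ℕ) (g : G) : Prop := L.Tr a g ∧ Commute y₀ (g * y₀ * g⁻¹)

namespace Based

variable (B : Based L y₀)
include B

theorem nb_sing {v : ℕ} {g : G} (hv : v < 256) (hg : L.Tr v g) (hc : Commute y₀ (g * y₀ * g⁻¹))
    (hne : g * y₀ * g⁻¹ ≠ y₀) : singB v = true := by
  obtain ⟨k, c, hk, hc', e⟩ := (L.atMem y₀ B.far.1.1).p_surj _ (hg.far B.far).1.1 hc hne
  obtain ⟨i, l, b, hi, hl, hl0, el, -⟩ := B.nb_fibre hv hg _ hk hc' e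
  rw [el]
  exact (scN_facts ⟨i, hi⟩ ⟨l, hl⟩).2.2.1 hl0

theorem isT_exists {a : ℕ} (ha : a < 256) (hs : singB a = true) : ∃ g, IsT L y₀ a g := by
  obtain ⟨i, l, hi, hl, hl0, rfl⟩ := sing_exists ha hs
  set M := L.atMem y₀ B.far.1.1
  set w := L.p i 0
  have hyz : ¬ Commute z y₀ := fun t => B.far.2 t.symm
  have hwy : w ≠ y₀ := fun t => hyz (t ▸ L.z_comm i 0 hi (by norm_num))
  obtain ⟨k, c₀, hk, hc₀, ew⟩ := M.p_surj w (L.p_D i 0 hi (by norm_num)) (B.orig i hi) hwy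
  set S := (Finset.range 4).erase c₀
  have hS : ∀ c ∈ S, c < 4 ∧ c ≠ c₀ := fun c hc => by
    simp only [S, Finset.mem_erase, Finset.mem_range] at hc; exact ⟨hc.2, hc.1⟩
  have hyc : ∀ c ∈ S, ∃ v g m, v < 256 ∧ L.Tr v g ∧ M.p k c = g * y₀ * g⁻¹ ∧
      m < 4 ∧ m ≠ 0 ∧ v = scN m (ptV i) := by
    intro c hc
    obtain ⟨hc4, hcne⟩ := hS c hc
    have hfar : M.p k c ∈ farS D z := by
      refine ⟨L.mem_comp_of_commute B.far.1 (M.p_D k c hk hc4) (M.z_comm k c hk hc4), fun h => hyz ?_⟩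
      exact M.comm_z_of_two L.mem hk hc₀ hc4 hcne.symm (ew ▸ L.z_comm i 0 hi (by norm_num)) h.symm
    obtain ⟨v, g, hv, hg, e⟩ := B.orbit_surj hfar
    obtain ⟨j, m, b, hj, hm, hm0, em, hb, eb⟩ := B.nb_fibre hv hg M hk hc4 e
    refine ⟨v, g, m, hv, hg, e, hm, hm0, ?_⟩
    have hb0 : b = c₀ := by
      by_contra hne
      exact hyz (M.comm_z_of_two L.mem hk hb hc₀ hne (eb ▸ L.z_comm j 0 hj (by norm_num))
        (ew ▸ L.z_comm i 0 hi (by norm_num)))
    subst hb0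
    obtain ⟨rfl, -⟩ := L.p_inj i j 0 0 hi hj (by norm_num) (by norm_num) (ew.symm.trans eb)
    exact em
  choose! vf gf mf hvf hgf hef hmf hmf0 hem using hyc
  have hinj : Set.InjOn mf ↑S := by
    intro c hc c' hc' t
    by_contra hne
    have hgc : L.Tr (vf c) (gf c') := by
      rw [hem c hc, t, ← hem c' hc']; exact hgf c' hc'
    rcases (hgf c hc).eq_or hgc with h | h
    · refine hne (M.p_inj k k c c' hk hk (hS c hc).1 (hS c' hc').1 ?_).2
      rw [hef c hc, hef c' hc', h]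
    · refine L.twin ((hgf c hc).far B.far) ?_
      rw [← (hgf c hc).conj_z, ← h, ← hef c hc, ← hef c' hc']
      exact (M.comm k k c c' hk hk (hS c hc).1 (hS c' hc').1).2 (perpB_self hk)
  have himg : S.image mf = Finset.Ico 1 4 := by
    refine Finset.eq_of_subset_of_card_le (fun m hm => ?_) ?_
    · obtain ⟨c, hc, rfl⟩ := Finset.mem_image.1 hm
      have := hmf c hc; have := hmf0 c hc
      simp only [Finset.mem_Ico]; omega
    · rw [Finset.card_image_of_injOn hinj, Finset.card_erase_of_mem (Finset.mem_range.2 hc₀)]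
      simp
  have hl' : l ∈ S.image mf := by rw [himg, Finset.mem_Ico]; omega
  obtain ⟨c, hc, rfl⟩ := Finset.mem_image.1 hl'
  refine ⟨gf c, ?_, ?_⟩
  · rw [← hem c hc]; exact hgf c hc
  · rw [← hef c hc]; exact M.z_comm k c hk (hS c hc).1

theorem isT_fibre {i l : ℕ} {g : G} (hi : i < 45) (hl : l < 4) (hl0 : l ≠ 0)
    (hg : IsT L y₀ (scN l (ptV i)) g) {M : Loc D y₀} {k c : ℕ} (hk : k < 45) (hc : c < 4)
    (e : M.p k c = g * y₀ * g⁻¹) : ∃ b, b < 4 ∧ M.p k b = L.p i 0 := by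
  obtain ⟨j, m, b, hj, hm, hm0, em, hb, eb⟩ :=
    B.nb_fibre (scN_facts ⟨i, hi⟩ ⟨l, hl⟩).1 hg.1 M hk hc e
  obtain rfl : i = j := congrArg Fin.val (scN_point ⟨i, hi⟩ ⟨j, hj⟩ ⟨l, hl⟩ ⟨m, hm⟩ hl0 hm0 em)
  exact ⟨b, hb, eb⟩

theorem isT_ne {a : ℕ} {g : G} (ha : a < 256) (hs : singB a = true) (hg : IsT L y₀ a g) :
    g * y₀ * g⁻¹ ≠ y₀ := fun h => by
  have := (B.orbit_inj ha (v := a) (w := 0) (by norm_num) hg.1 L.tr_one (by simpa using h)).1
  exact (singB_iff.1 hs).1 this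

theorem isT_unique {a : ℕ} {g k : G} (ha : a < 256) (hs : singB a = true) (hg : IsT L y₀ a g)
    (hk : IsT L y₀ a k) : g = k := by
  rcases hg.1.eq_or hk.1 with h | h
  · exact h.symm
  exfalso
  obtain ⟨i, l, hi, hl, hl0, rfl⟩ := sing_exists ha hs
  set M := L.atMem y₀ B.far.1.1
  obtain ⟨p, c, hp, hc, e⟩ := M.p_surj _ (hg.1.far B.far).1.1 hg.2 (B.isT_ne ha hs hg)
  obtain ⟨q, d, hq, hd, e'⟩ := M.p_surj _ (hk.1.far B.far).1.1 hk.2 (B.isT_ne ha hs hk)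
  obtain ⟨b, hb, eb⟩ := B.isT_fibre hi hl hl0 hg hp hc e
  obtain ⟨b', hb', eb'⟩ := B.isT_fibre hi hl hl0 hk hq hd e'
  obtain ⟨rfl, -⟩ := M.p_inj _ _ _ _ hp hq hb hb' (eb.trans eb'.symm)
  refine L.twin (hg.1.far B.far) ?_
  rw [← hg.1.conj_z, ← h, ← e, ← e']
  exact (M.comm p p c d hp hp hc hd).2 (perpB_self hp)

/-- The translation of the singular vector `a`. -/
noncomputable def T (a : ℕ) : G :=
  if h : a < 256 ∧ singB a = true then (B.isT_exists h.1 h.2).choose else 1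

theorem T_spec {a : ℕ} (ha : a < 256) (hs : singB a = true) : IsT L y₀ a (B.T a) := by
  rw [T, dif_pos ⟨ha, hs⟩]; exact (B.isT_exists ha hs).choose_spec

theorem T_eq {a : ℕ} (ha : a < 256) (hs : singB a = true) {g : G} (hg : IsT L y₀ a g) :
    g = B.T a := B.isT_unique ha hs hg (B.T_spec ha hs)

theorem T_sq {a : ℕ} (ha : a < 256) (hs : singB a = true) : B.T a * B.T a = 1 := by
  have h : (B.T a)⁻¹ = B.T a := by
    refine B.T_eq ha hs ⟨(B.T_spec ha hs).1.inv', ?_⟩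
    have := (commute_conj (B.T a)⁻¹).2 (B.T_spec ha hs).2
    rw [show (B.T a)⁻¹ * (B.T a * y₀ * (B.T a)⁻¹) * (B.T a)⁻¹⁻¹ = y₀ by group] at this
    exact this.symm
  calc B.T a * B.T a = (B.T a)⁻¹ * B.T a := by rw [h]
    _ = 1 := inv_mul_cancel _

theorem T_inv {a : ℕ} (ha : a < 256) (hs : singB a = true) : (B.T a)⁻¹ = B.T a :=
  inv_eq_of_mul_eq_one_right (B.T_sq ha hs)

/-- Translations of orthogonal singular vectors multiply. -/
theorem T_mul {a b : ℕ} (ha : a < 256) (hb : b < 256) (hsa : singB a = true) (hsb : singB b = true)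
    (hab : hN a b = 0) (hsum : singB (a ^^^ b) = true) : B.T (a ^^^ b) = B.T a * B.T b := by
  obtain ⟨i, l, hi, hl, hl0, ea⟩ := sing_exists ha hsa
  obtain ⟨j, m, hj, hm, hm0, eb⟩ := sing_exists hb hsb
  have hp : perpB i j = true :=
    (scN_orth ⟨i, hi⟩ ⟨j, hj⟩ ⟨l, hl⟩).2 ⟨m, hm⟩ hl0 hm0 (by rw [← ea, ← eb]; exact hab)
  have hA := B.T_spec ha hsa
  have hB := B.T_spec hb hsb
  set M := L.atMem y₀ B.far.1.1
  obtain ⟨k, c, hk, hc, e⟩ := M.p_surj _ (hB.1.far B.far).1.1 hB.2 (B.isT_ne hb hsb hB)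
  obtain ⟨d, hd, ed⟩ := B.isT_fibre (M := M) hj hm hm0 (eb ▸ hB) hk hc e
  have hcomm : Commute (B.T a * y₀ * (B.T a)⁻¹) (B.T b * y₀ * (B.T b)⁻¹) := by
    rw [← e]
    refine M.comm_fibre (hA.1.far B.far).1.1 hk hd hc hA.2.symm ?_
    rw [ed]
    refine (L.comm_iff_sec (hA.1.far B.far) hj (by norm_num)).2 ?_
    rw [B.sec_eq hA.1 hj, ea]
    exact (scN_orth ⟨i, hi⟩ ⟨j, hj⟩ ⟨l, hl⟩).1 hp
  refine (B.T_eq (xor_lt256 ha hb) hsum ⟨hA.1.mul hB.1, ?_⟩).symm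
  have h2 := (commute_conj (B.T a)).2 hcomm
  rw [show B.T a * (B.T a * y₀ * (B.T a)⁻¹) * (B.T a)⁻¹ = B.T a * B.T a * y₀ * (B.T a * B.T a)⁻¹
      by group, B.T_sq ha hsa, one_mul, inv_one, mul_one] at h2
  rw [show B.T a * B.T b * y₀ * (B.T a * B.T b)⁻¹ =
    B.T a * (B.T b * y₀ * (B.T b)⁻¹) * (B.T a)⁻¹ by group]
  exact h2

/-- The square of a product of two of them is governed by the form. -/
theorem T_prod_sq {a b : ℕ} (ha : a < 256) (hb : b < 256) (hsa : singB a = true)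
    (hsb : singB b = true) : B.T a * B.T b * (B.T a * B.T b) =
      if hN (a ^^^ b) (a ^^^ b) = 0 then 1 else z := by
  have hv := xor_lt256 ha hb
  have hg := (B.T_spec ha hsa).1.mul (B.T_spec hb hsb).1
  have h2 := hg.mul hg
  rw [Nat.xor_self] at h2
  split
  · next h =>
    by_cases h0 : a ^^^ b = 0
    · obtain rfl := Nat.xor_eq_zero_iff.1 h0
      rw [B.T_sq ha hsa, one_mul]
    · have hs := singB_iff.2 ⟨h0, h⟩
      have hT := B.T_spec hv hs
      rcases hT.1.eq_or hg with e | e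
      · rw [e, B.T_sq hv hs]
      · rw [e, hT.1.1.eq, mul_assoc, ← mul_assoc (B.T (a ^^^ b)), ← hT.1.1.symm.eq, mul_assoc z (B.T _),
          B.T_sq hv hs, mul_one, L.z_sq]
  · next h => exact h2.ker_eq.resolve_left (L.sq _ _ hv h hg.1 hg.2)

/-- Adjacency to the origin. -/
theorem comm_orig_iff {v : ℕ} {g : G} (hv : v < 256) (hg : L.Tr v g) :
    Commute y₀ (g * y₀ * g⁻¹) ↔ g = 1 ∨ (singB v = true ∧ g = B.T v) := by
  constructor
  · intro h
    by_cases hne : g * y₀ * g⁻¹ = y₀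
    · exact .inl (B.orbit_inj hv (w := 0) (by norm_num) hg L.tr_one (by simpa using hne)).2
    · have hs := B.nb_sing hv hg h hne
      exact .inr ⟨hs, B.T_eq hv hs ⟨hg, h⟩⟩
  · rintro (rfl | ⟨hs, rfl⟩)
    · simp
    · exact (B.T_spec hv hs).2

end Based

end Cfsg.Agent.U6Recog
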