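import Cfsg.Agent.Lib.U6Recog.Count

/-!
# The translations

The translations act regularly on the 512 members at distance two; those moving an origin to a
neighbour are involutions `T a`, one for every singular vector, additive on orthogonal pairs.
-/

set_option autoImplicit false
set_option maxRecDepth 20000

namespace Cfsg.Agent.U6Recog

open scoped Classical

theorem scN_point : ∀ i j : Fin 45, ∀ l m : Fin 4, (l : ℕ) ≠ 0 → (m : ℕ) ≠ 0 →
    scN l (ptV i) = scN m (ptV j) → i = j := by decide +kernel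

theorem scN_zero : ∀ i : Fin 45, scN 0 (ptV i) = 0 := by decide +kernel

theorem scN_orth : ∀ i j : Fin 45, ∀ l : Fin 4,
    (perpB i j = true → hN (ptV j) (scN l (ptV i)) = 0) ∧
    ∀ m : Fin 4, (l : ℕ) ≠ 0 → (m : ℕ) ≠ 0 → hN (scN l (ptV i)) (scN m (ptV j)) = 0 →
      perpB i j = true := by decide +kernel

theorem hN_self_zero_of_orth : ∀ i j : Fin 45, ∀ l m : Fin 4, perpB i j = true →
    hN (scN l (ptV i) ^^^ scN m (ptV j)) (scN l (ptV i) ^^^ scN m (ptV j)) = 0 := by decide +kernel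

theorem sing_exists {v : ℕ} (hv : v < 256) (h : singB v = true) :
    ∃ i l, i < 45 ∧ l < 4 ∧ l ≠ 0 ∧ v = scN l (ptV i) := by
  have := List.all_eq_true.1 singB_decomp v (List.mem_range.2 hv)
  simp only [h, Bool.not_true, Bool.false_or, List.any_eq_true, List.mem_range, Bool.and_eq_true,
    bne_iff_ne, beq_iff_eq] at this
  obtain ⟨i, hi, l, hl, hl0, e⟩ := this
  exact ⟨i, l, hi, hl, hl0, e⟩

variable {G : Type*} [Group G] {D : Set G}

namespace Loc

variable {z : G} (L : Loc D z)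

theorem z_sq (L : Loc D z) : z * z = 1 := by
  rw [← pow_two, ← L.inv z L.mem]; exact pow_orderOf_eq_one z

theorem z_inv (L : Loc D z) : z⁻¹ = z := inv_eq_of_mul_eq_one_right L.z_sq

/-- `g` translates the fibres by `v`. -/
def Tr (v : ℕ) (g : G) : Prop :=
  Commute g z ∧ ∀ i a, i < 45 → a < 4 → g * L.p i a * g⁻¹ = L.p i (a ^^^ hN (ptV i) v)

theorem tr_one : L.Tr 0 1 := ⟨Commute.one_left _, fun i a hi _ => by
  simp [hN_zero ⟨i, hi⟩]⟩

theorem tr_z : L.Tr 0 z := ⟨Commute.refl _, fun i a hi ha => by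
  rw [hN_zero ⟨i, hi⟩, Nat.xor_zero, (L.z_comm i a hi ha).eq, mul_inv_cancel_right]⟩

variable {L}

theorem Tr.mul {v w : ℕ} {g k : G} (hg : L.Tr v g) (hk : L.Tr w k) : L.Tr (v ^^^ w) (g * k) :=
  ⟨hg.1.mul_left hk.1, fun i a hi ha => by
    rw [show g * k * L.p i a * (g * k)⁻¹ = g * (k * L.p i a * k⁻¹) * g⁻¹ by group, hk.2 i a hi ha,
      hg.2 i _ hi (xor_lt4 ha (hN_lt _ _)), Nat.xor_assoc, Nat.xor_comm (hN _ w), ← hN_xor]⟩

theorem Tr.inv' {v : ℕ} {g : G} (hg : L.Tr v g) : L.Tr v g⁻¹ :=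
  ⟨hg.1.inv_left, fun i a hi ha => by
    have h := hg.2 i _ hi (xor_lt4 ha (hN_lt (ptV i) v))
    rw [Nat.xor_assoc, Nat.xor_self, Nat.xor_zero] at h
    rw [← h]; group⟩

theorem Tr.ker_eq {g : G} (hg : L.Tr 0 g) : g = 1 ∨ g = z :=
  L.ker g hg.1 fun i a hi ha => by
    have h := hg.2 i a hi ha
    rw [hN_zero ⟨i, hi⟩, Nat.xor_zero] at h
    exact mul_inv_eq_iff_eq_mul.1 h

theorem Tr.eq_or {v : ℕ} {g k : G} (hg : L.Tr v g) (hk : L.Tr v k) : k = g ∨ k = g * z := by
  have h := (Tr.inv' hg).mul hk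
  rw [Nat.xor_self] at h
  rcases h.ker_eq with e | e
  · left; rw [← mul_inv_cancel_left g k, e, mul_one]
  · right; rw [← mul_inv_cancel_left g k, e]

theorem Tr.conj_z {v : ℕ} {g : G} (hg : L.Tr v g) (y : G) :
    g * z * y * (g * z)⁻¹ = z * (g * y * g⁻¹) * z⁻¹ := by
  rw [hg.1.eq]; group

variable [Finite G]

theorem Tr.far {v : ℕ} {g : G} (hg : L.Tr v g) {y : G} (hy : y ∈ farS D z) :
    g * y * g⁻¹ ∈ farS D z := by
  have e : g * z * g⁻¹ = z := by rw [hg.1.eq, mul_inv_cancel_right]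
  refine ⟨L.conj_comp L.mem_comp_self (by rw [e]; exact L.mem_comp_self) hy.1, fun h => hy.2 ?_⟩
  exact (commute_conj g).1 (by rw [e]; exact h)

theorem Tr.sec {v : ℕ} {g : G} (hg : L.Tr v g) {y : G} (hy : y ∈ farS D z) {i : ℕ} (hi : i < 45) :
    L.sec (g * y * g⁻¹) i = L.sec y i ^^^ hN (ptV i) v :=
  L.sec_unique (hg.far hy) hi (xor_lt4 (L.sec_lt y i) (hN_lt _ _))
    (by rw [← hg.2 i _ hi (L.sec_lt y i)]; exact (commute_conj g).2 (L.sec_comm hy hi))

variable (L)

theorem z_moves (L : Loc D z) {y : G} (hy : y ∈ farS D z) : z * y * z⁻¹ ≠ y := fun h =>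
  hy.2 (mul_inv_eq_iff_eq_mul.1 h).symm

/-- The two members with the same neighbours do not commute. -/
theorem twin (L : Loc D z) {y : G} (hy : y ∈ farS D z) : ¬ Commute y (z * y * z⁻¹) := by
  intro h
  set M := L.atMem y hy.1.1
  obtain ⟨k, c, hk, hc, e⟩ := M.p_surj _ (L.conj_mem z y hy.1.1) h (L.z_moves hy)
  have hw : ∀ i < 45, ∃ l d, l < 45 ∧ d < 4 ∧ M.p l d = L.p i (L.sec y i) := fun i hi =>
    M.p_surj _ (L.p_D i _ hi (L.sec_lt y i)) (L.sec_comm hy hi)
      fun t => hy.2 (t ▸ (L.z_comm i _ hi (L.sec_lt y i)).symm)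
  choose! f d hf hd hfd using hw
  have hperp : ∀ i ∈ Finset.range 45, f i ∈ (perpList k).toFinset := fun i hi => by
    rw [Finset.mem_range] at hi
    rw [List.mem_toFinset, mem_perpList]
    refine ⟨hf i hi, (M.comm k (f i) c (d i) hk (hf i hi) hc (hd i hi)).1 ?_⟩
    rw [e, hfd i hi]
    have hz : z * L.p i (L.sec y i) * z⁻¹ = L.p i (L.sec y i) := by
      rw [(L.z_comm i _ hi (L.sec_lt y i)).eq, mul_inv_cancel_right]
    rw [← hz]
    exact (commute_conj z).2 (L.sec_comm hy hi)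
  have hinj : Set.InjOn f ↑(Finset.range 45) := by
    intro i hi j hj t
    simp only [Finset.coe_range, Set.mem_Iio] at hi hj
    have hd' : d i = d j := by
      by_contra hne
      exact hy.2 (M.comm_z_of_two L.mem (hf i hi) (hd i hi) (hd j hj) hne
        (by rw [hfd i hi]; exact L.z_comm i _ hi (L.sec_lt y i))
        (by rw [t, hfd j hj]; exact L.z_comm j _ hj (L.sec_lt y j))).symm
    exact (L.p_inj i j _ _ hi hj (L.sec_lt y i) (L.sec_lt y j) (by rw [← hfd i hi, ← hfd j hj, t, hd'])).1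
  have := Finset.card_le_card_of_injOn f hperp hinj
  rw [Finset.card_range] at this
  have h13 : (perpList k).length = 13 := (gq_count ⟨k, hk⟩).1
  have := List.toFinset_card_le (perpList k)
  omega

end Loc

/-- A local setting with an origin among the members at distance two. -/
structure Based {z : G} (L : Loc D z) (y₀ : G) : Prop where
  far : y₀ ∈ farS D z
  orig : ∀ i, i < 45 → Commute y₀ (L.p i 0)

namespace Loc

variable {z : G}

/-- Shift of the origins of the fibres. -/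
def shift (L : Loc D z) (s : ℕ → ℕ) (hs : ∀ i, s i < 4) : Loc D z where
  p i a := L.p i (a ^^^ s i)
  mem := L.mem
  inv := L.inv
  conj_mem := L.conj_mem
  trans := L.trans
  p_mem i a hi ha := L.p_mem i _ hi (xor_lt4 ha (hs i))
  p_surj x hx hc hne := by
    obtain ⟨i, a, hi, ha, e⟩ := L.p_surj x hx hc hne
    exact ⟨i, a ^^^ s i, hi, xor_lt4 ha (hs i), by rw [Nat.xor_assoc, Nat.xor_self, Nat.xor_zero, e]⟩
  p_inj i j a b hi hj ha hb h := by
    obtain ⟨rfl, e⟩ := L.p_inj i j _ _ hi hj (xor_lt4 ha (hs i)) (xor_lt4 hb (hs j)) h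
    exact ⟨rfl, Nat.xor_left_injective e⟩
  comm i j a b hi hj ha hb := L.comm i j _ _ hi hj (xor_lt4 ha (hs i)) (xor_lt4 hb (hs j))
  transl v hv := by
    obtain ⟨g, hg, hg'⟩ := L.transl v hv
    exact ⟨g, hg, fun i a hi ha => by
      rw [hg' i _ hi (xor_lt4 ha (hs i)), Nat.xor_assoc, Nat.xor_comm (s i), ← Nat.xor_assoc]⟩
  ker g hg h := L.ker g hg fun i a hi ha => by
    have := h i (a ^^^ s i) hi (xor_lt4 ha (hs i))
    rwa [Nat.xor_assoc, Nat.xor_self, Nat.xor_zero] at this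
  sq v g hv hq hg h := L.sq v g hv hq hg fun i a hi ha => by
    have := h i (a ^^^ s i) hi (xor_lt4 ha (hs i))
    rwa [Nat.xor_assoc a, Nat.xor_self, Nat.xor_zero, Nat.xor_assoc, Nat.xor_assoc,
      Nat.xor_comm (hN _ _), ← Nat.xor_assoc (s i), Nat.xor_self, Nat.zero_xor] at this

theorem exists_based [Finite G] (L : Loc D z) : ∃ (L' : Loc D z) (y₀ : G), Based L' y₀ := by
  obtain ⟨y, hy⟩ := L.exists_far
  refine ⟨L.shift (L.sec y) (L.sec_lt y), y, hy, fun i hi => ?_⟩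
  show Commute y (L.p i (0 ^^^ L.sec y i))
  rw [Nat.zero_xor]; exact L.sec_comm hy hi

end Loc

namespace Based

variable [Finite G] {z : G} {L : Loc D z} {y₀ : G} (B : Based L y₀)
include B

theorem sec_orig {i : ℕ} (hi : i < 45) : L.sec y₀ i = 0 :=
  L.sec_unique B.far hi (by norm_num) (B.orig i hi)

theorem sec_eq {v : ℕ} {g : G} (hg : L.Tr v g) {i : ℕ} (hi : i < 45) :
    L.sec (g * y₀ * g⁻¹) i = hN (ptV i) v := by
  rw [hg.sec B.far hi, B.sec_orig hi, Nat.zero_xor]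

theorem orbit_inj {v w : ℕ} {g k : G} (hv : v < 256) (hw : w < 256) (hg : L.Tr v g) (hk : L.Tr w k)
    (e : g * y₀ * g⁻¹ = k * y₀ * k⁻¹) : v = w ∧ g = k := by
  have hvw : v = w := eq_of_orth hv hw fun i hi => by
    rw [← B.sec_eq hg hi, ← B.sec_eq hk hi, e]
  subst hvw
  refine ⟨rfl, ?_⟩
  rcases hg.eq_or hk with h | h
  · exact h.symm
  · subst h
    rw [hg.conj_z] at e
    exact absurd e.symm (L.z_moves (hg.far B.far))

theorem orbit_surj {y : G} (hy : y ∈ farS D z) :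
    ∃ v g, v < 256 ∧ L.Tr v g ∧ y = g * y₀ * g⁻¹ := by
  have hτ : ∀ v : Fin 256, ∃ g : G, L.Tr v g := fun v => L.transl v v.2
  choose τ hτ using hτ
  let k : Fin 256 × Bool → G := fun q => if q.2 then τ q.1 * z else τ q.1
  have hk : ∀ q, L.Tr q.1 (k q) := fun q => by
    cases h : q.2
    · simpa [k, h] using hτ q.1
    · simpa [k, h] using (hτ q.1).mul L.tr_z
  let φ : Fin 256 × Bool → G := fun q => k q * y₀ * (k q)⁻¹
  have hφ : Function.Injective φ := by
    intro q r e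
    obtain ⟨e1, e2⟩ := B.orbit_inj q.1.2 r.1.2 (hk q) (hk r) e
    have e1' : q.1 = r.1 := Fin.ext e1
    refine Prod.ext e1' ?_
    have hz1 : z ≠ 1 := fun t => by simpa [t] using L.inv z L.mem
    cases hq : q.2 <;> cases hr : r.2 <;> simp only [k, hq, hr, e1'] at e2 <;> first
      | rfl
      | exact absurd (by simpa using e2) hz1
  have hr : Set.range φ = farS D z := by
    refine Set.eq_of_subset_of_ncard_le ?_ ?_ (Set.toFinite _)
    · rintro _ ⟨q, rfl⟩; exact (hk q).far B.far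
    · rw [L.card_far, ← Set.image_univ, Set.ncard_image_of_injective _ hφ, Set.ncard_univ,
        Nat.card_eq_fintype_card, Fintype.card_prod, Fintype.card_fin, Fintype.card_bool]
  obtain ⟨q, rfl⟩ := hr.symm.subset hy
  exact ⟨q.1, k q, q.1.2, hk q, rfl⟩

/-- The fibre at the origin of a neighbour determines its translation vector. -/
theorem nb_fibre {v : ℕ} {g : G} (hv : v < 256) (hg : L.Tr v g)
    (M : Loc D y₀) {k c : ℕ} (hk : k < 45) (hc : c < 4) (e : M.p k c = g * y₀ * g⁻¹) :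
    ∃ i l b, i < 45 ∧ l < 4 ∧ l ≠ 0 ∧ v = scN l (ptV i) ∧ b < 4 ∧ M.p k b = L.p i 0 := by
  have hy := hg.far B.far
  obtain ⟨x, hx, hx1, hx2⟩ := B.far.1.2
  have hyz : ¬ Commute z y₀ := fun t => B.far.2 t.symm
  obtain ⟨b, hb, hb'⟩ := M.covered L.mem hyz hx hx2.symm hx1.symm hk
  have hwy : M.p k b ≠ z := fun t => hyz (t ▸ (M.z_comm k b hk hb).symm)
  obtain ⟨i, a, hi, ha, ei⟩ := L.p_surj _ (M.p_D k b hk hb) hb' hwy
  obtain rfl : a = 0 := by
    rw [← L.sec_unique B.far hi ha (ei ▸ M.z_comm k b hk hb)]; exact B.sec_orig hi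
  have hperp : (perpList i).all (fun j => hN (ptV j) v == 0) = true := by
    rw [List.all_eq_true]
    intro j hj
    obtain ⟨hj, hp⟩ := mem_perpList.1 hj
    rw [beq_iff_eq, ← B.sec_eq hg hj]
    refine L.sec_unique hy hj (by norm_num) ?_
    rw [← e]
    refine (M.comm_fibre (L.p_D j 0 hj (by norm_num)) hk hb hc (B.orig j hj).symm ?_).symm
    rw [← ei]
    exact ((L.comm i j 0 0 hi hj (by norm_num) (by norm_num)).2 hp).symm
  have := List.all_eq_true.1 (gq_radical ⟨i, hi⟩) v (List.mem_range.2 hv)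
  simp only [hperp, Bool.not_true, Bool.false_or, List.any_eq_true, List.mem_range, beq_iff_eq]
    at this
  obtain ⟨l, hl, el⟩ := this
  refine ⟨i, l, b, hi, hl, fun h0 => ?_, el, hb, ei.symm⟩
  subst h0
  have hv0 : v = 0 := by rw [el]; exact scN_zero ⟨i, hi⟩
  subst hv0
  rcases hg.ker_eq with h | h
  · subst h
    exact M.p_ne k c hk hc (by rw [e]; group)
  · subst h
    exact L.twin B.far (by rw [← e]; exact M.z_comm k c hk hc)

end Based

end Cfsg.Agent.U6Recog
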